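import Mathlib.Data.Nat.Prime.Int
import Mathlib.Tactic.Linarith
import Mathlib.Tactic.Ring
import Mathlib.Tactic.LinearCombination

/-!
# The Diophantine part of Wielandt's argument
-/

namespace Cfsg.Agent.DegreeTwoP

/-- Two conjugate constituents: the eigenvalue sum of an orbital is at most `-2`. -/
theorem four_bound {p e : ℕ} (hp : p.Prime) (hpe : p = 2 * e + 1) {k z c M t : ℤ} (hk : 2 ≤ k)
    (h1 : k + p * z + e * c = 0) (h2 : k ^ 2 + p * z ^ 2 + e * M = 2 * p * k)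
    (h3 : 2 * M = c ^ 2 + p * t ^ 2) : 2 * z + c ≤ -2 := by
  have hP : (p : ℤ) = 2 * e + 1 := by exact_mod_cast hpe
  have he : (0 : ℤ) < e := by
    have := hp.two_le
    omega
  rw [hP] at h1 h2 h3
  obtain ⟨l, hl⟩ : ∃ l, l = 2 * z + c := ⟨_, rfl⟩
  rw [← hl]
  have hc : c = l - 2 * z := by linarith
  have hz : z = -k - e * l := by rw [hc] at h1; linarith
  have hc' : c = 2 * k + l * (2 * e + 1) := by rw [hc, hz]; ring
  subst hc' hz
  by_contra hlt
  rcases (show 0 ≤ l ∨ l = -1 by omega) with h | h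
  · have hel : 0 ≤ (e : ℤ) * l := mul_nonneg he.le h
    have h4 : 4 * k ^ 2 ≤ (2 * k + l * (2 * e + 1)) ^ 2 := by nlinarith
    have h5 : k ^ 2 ≤ (-k - e * l) ^ 2 := by nlinarith
    have h7 : (2 * (e : ℤ) + 1) * k ^ 2 ≤ (2 * e + 1) * (-k - e * l) ^ 2 :=
      mul_le_mul_of_nonneg_left h5 (by linarith)
    have h8 : (e : ℤ) * (4 * k ^ 2) ≤ e * (2 * M) :=
      mul_le_mul_of_nonneg_left (by nlinarith [sq_nonneg t]) he.le
    have h6 : (e : ℤ) * k * 2 ≤ e * k * k := mul_le_mul_of_nonneg_left hk (mul_nonneg he.le (by linarith))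
    nlinarith [mul_le_mul hk hk (by norm_num) (by linarith)]
  · subst h
    obtain ⟨h, rfl⟩ : ∃ h, k = e + h := ⟨k - e, by ring⟩
    have hP0 : (0 : ℤ) < 2 * e + 1 := by linarith
    have hM : (e : ℤ) * (2 * M) =
        e * ((2 * (e + h) + -1 * (2 * e + 1)) ^ 2 + (2 * e + 1) * t ^ 2) := by rw [h3]
    have key : (2 * (e : ℤ) + 1) * (4 * h * (h - 1) - e * (3 - t ^ 2)) = 0 := by
      linear_combination 2 * h2 - hM
    have key' := (mul_eq_zero.1 key).resolve_left hP0.ne'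
    have hh : 0 ≤ h * (h - 1) := by
      rcases le_or_gt h 0 with hle | hgt
      · exact mul_nonneg_of_nonpos_of_nonpos hle (by linarith)
      · exact mul_nonneg hgt.le (by linarith)
    have ht3 : t ^ 2 ≤ 3 := by
      by_contra h4
      nlinarith
    have hodd : t % 2 ≠ 0 := by
      intro ht0
      have e1 : (2 * M) % 2 = 0 := by omega
      obtain ⟨u, rfl⟩ : (2 : ℤ) ∣ t := Int.dvd_of_emod_eq_zero ht0
      rw [h3] at e1
      obtain ⟨w, hw⟩ : ∃ w, (2 * (e + h) + -1 * (2 * e + 1)) ^ 2 + (2 * e + 1) * (2 * u) ^ 2 =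
          2 * w + 1 := ⟨2 * h * h - 2 * h + (2 * e + 1) * 2 * u * u, by ring⟩
      rw [hw] at e1
      omega
    have ht1 : t ^ 2 = 1 := by
      rcases (show t ≤ -2 ∨ t = -1 ∨ t = 1 ∨ 2 ≤ t by omega) with ht | rfl | rfl | ht
      · nlinarith
      · norm_num
      · norm_num
      · nlinarith
    rw [ht1] at key'
    have hsq : (p : ℤ) = (2 * h - 1) * (2 * h - 1) := by rw [hP]; linarith
    have hn : p = (2 * h - 1).natAbs * (2 * h - 1).natAbs := by
      rw [← Int.natAbs_mul, ← hsq, Int.natAbs_natCast]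
    rw [hn, Nat.prime_mul_iff] at hp
    rcases hp with ⟨hp1, hp2⟩ | ⟨hp1, hp2⟩ <;> exact hp1.ne_one hp2

/-- One constituent of degree `p - 1`: the eigenvalue sum is at most `-1`. -/
theorem three_bound {p : ℕ} (hp : 1 < p) {k z m : ℤ} (hk : 2 ≤ k)
    (h1 : k + p * z + (p - 1) * m = 0) (h2 : k ^ 2 + p * z ^ 2 + (p - 1) * m ^ 2 = 2 * p * k) :
    z + m ≤ -1 ∧ (z + m = -1 → (2 * k - (2 * p - 1)) ^ 2 = 2 * p - 1) := by
  have hP : (2 : ℤ) ≤ p := by exact_mod_cast hp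
  obtain ⟨l, hl⟩ : ∃ l, l = z + m := ⟨_, rfl⟩
  rw [← hl]
  have hm : m = l - z := by linarith
  have hz : z = -k - ((p : ℤ) - 1) * l := by rw [hm] at h1; linarith
  have hm' : m = k + l * p := by rw [hm, hz]; ring
  subst hm' hz
  constructor
  · by_contra hlt
    have hl0 : 0 ≤ l := by omega
    have h5 : k ^ 2 ≤ (-k - ((p : ℤ) - 1) * l) ^ 2 := by nlinarith [mul_nonneg (by linarith : (0:ℤ) ≤ (p:ℤ) - 1) hl0]
    have h4 : k ^ 2 ≤ (k + l * p) ^ 2 :=
      pow_le_pow_left₀ (by linarith) (by nlinarith) 2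
    have h7 : (p : ℤ) * k ^ 2 ≤ p * (-k - ((p : ℤ) - 1) * l) ^ 2 := mul_le_mul_of_nonneg_left h5 (by linarith)
    have h8 : ((p : ℤ) - 1) * k ^ 2 ≤ (p - 1) * (k + l * p) ^ 2 :=
      mul_le_mul_of_nonneg_left h4 (by linarith)
    have h6 : (p : ℤ) * k * 2 ≤ p * k * k := mul_le_mul_of_nonneg_left hk (by positivity)
    nlinarith
  · rintro rfl
    refine mul_left_cancel₀ (show (p : ℤ) ≠ 0 by omega) ?_
    linear_combination 2 * h2

/-- Extraction of the parameter. -/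
theorem exists_param {p : ℕ} (hp : 1 < p) {k : ℤ} (h : (2 * k - (2 * p - 1)) ^ 2 = 2 * p - 1) :
    ∃ a : ℕ, 0 < a ∧ p = 2 * a ^ 2 + 2 * a + 1 := by
  have hodd : (2 * k - (2 * (p : ℤ) - 1)).natAbs % 2 = 1 := by omega
  obtain ⟨a, ha⟩ : ∃ a, (2 * k - (2 * (p : ℤ) - 1)).natAbs = 2 * a + 1 :=
    ⟨(2 * k - (2 * (p : ℤ) - 1)).natAbs / 2, by omega⟩
  have hsq := Int.natAbs_sq (2 * k - (2 * (p : ℤ) - 1))
  rw [ha, h] at hsq
  push_cast at hsq
  refine ⟨a, Nat.pos_of_ne_zero fun h0 => ?_, ?_⟩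
  · subst h0
    norm_num at hsq
    omega
  · have : (p : ℤ) = 2 * a ^ 2 + 2 * a + 1 := by linarith
    exact_mod_cast this

theorem subdegree_eq {p a k : ℕ} (hpa : p = 2 * a ^ 2 + 2 * a + 1)
    (h : (2 * (k : ℤ) - (2 * p - 1)) ^ 2 = 2 * p - 1) :
    k = a * (2 * a + 1) ∨ k = (a + 1) * (2 * a + 1) := by
  subst hpa
  push_cast at h
  have h' : (2 * (k : ℤ) - (4 * a ^ 2 + 4 * a + 1)) ^ 2 = (2 * (a : ℤ) + 1) ^ 2 := by linarith
  rcases sq_eq_sq_iff_eq_or_eq_neg.1 h' with h1 | h1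
  · right
    have : (k : ℤ) = ((a + 1) * (2 * a + 1) : ℕ) := by push_cast; linarith
    exact_mod_cast this
  · left
    have : (k : ℤ) = (a * (2 * a + 1) : ℕ) := by push_cast; linarith
    exact_mod_cast this

end Cfsg.Agent.DegreeTwoP
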