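import Cfsg.Agent.DegreeTwoP.ShapeLemmas

/-!
# Eigenvalues of orbitals on constituents of multiplicity one
-/

set_option maxHeartbeats 800000

namespace Cfsg.Agent.DegreeTwoP

open scoped ComplexConjugate
open Cfsg.Agent.Char Module Matrix

universe u v

variable {R : Type u} [Group R] [Fintype R] {Ω : Type v} [Fintype Ω] [MulAction R Ω]
  [MulAction.IsPretransitive R Ω]

/-- The eigenvalue of the orbital of `(a, b)` on a constituent. -/
noncomputable def lam (a b : Ω) (φ : IrrCharacter R) : ℂ :=
  classInner (orbFun (orbMat R a b)) (φ : R → ℂ)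

omit [Fintype R] [MulAction.IsPretransitive R Ω] in
theorem inv_transpose {A : Matrix Ω Ω ℤ} (hA : ∀ (g : R) x y, A (g • x) (g • y) = A x y)
    (g : R) (x y : Ω) : Aᵀ (g • x) (g • y) = Aᵀ x y := hA g y x

omit [Fintype R] [MulAction.IsPretransitive R Ω] in
theorem inv_mul {A B : Matrix Ω Ω ℤ} (hA : ∀ (g : R) x y, A (g • x) (g • y) = A x y)
    (hB : ∀ (g : R) x y, B (g • x) (g • y) = B x y) (g : R) (x y : Ω) :
    (A * B) (g • x) (g • y) = (A * B) x y := by
  simp only [Matrix.mul_apply]
  refine (Fintype.sum_equiv (MulAction.toPerm g) _ _ fun z => ?_).symm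
  show A x z * B z y = A (g • x) (g • z) * B (g • z) (g • y)
  rw [hA, hB]

omit [Fintype R] [MulAction.IsPretransitive R Ω] in
theorem inv_add {A B : Matrix Ω Ω ℤ} (hA : ∀ (g : R) x y, A (g • x) (g • y) = A x y)
    (hB : ∀ (g : R) x y, B (g • x) (g • y) = B x y) (g : R) (x y : Ω) :
    (A + B) (g • x) (g • y) = (A + B) x y := by
  simp only [Matrix.add_apply, hA, hB]

omit [Fintype R] [MulAction.IsPretransitive R Ω] in
theorem orbFun_add (A B : Matrix Ω Ω ℤ) :
    (orbFun (A + B) : R → ℂ) = orbFun A + orbFun B := by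
  funext g
  simp [orbFun, Finset.sum_add_distrib]

omit [MulAction.IsPretransitive R Ω] in
theorem classInner_orbFun_transpose (A : Matrix Ω Ω ℤ) {φ : R → ℂ} (hφ : IsCharacter R φ) :
    classInner (orbFun Aᵀ) φ = conj (classInner (orbFun A) φ) := by
  have ht : ∀ g : R, orbFun Aᵀ g = orbFun A g⁻¹ := fun g => by
    unfold orbFun
    refine congrArg Int.cast ?_
    refine Fintype.sum_equiv (MulAction.toPerm g) _ _ fun z => ?_
    show A (g • z) z = A (g • z) (g⁻¹ • g • z)
    rw [inv_smul_smul]
  simp only [classInner, map_mul, map_inv₀, Complex.conj_natCast, map_sum, Complex.conj_conj, ht]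
  congr 1
  refine Fintype.sum_equiv (Equiv.inv R) _ _ fun g => ?_
  have hreal : conj (orbFun A g⁻¹) = orbFun A g⁻¹ := by
    unfold orbFun
    exact map_intCast _ _
  show orbFun A g⁻¹ * conj (φ g) = conj (orbFun A g⁻¹) * φ g⁻¹
  rw [hreal, IsChar.inv_eq_conj hφ]

theorem lam_isIntegral (a b : Ω) (φ : IrrCharacter R) : IsIntegral ℤ (lam a b φ) := by
  classical
  exact (orbital_inner (orbMat R a b) (orbMat_inv a b) φ.2).1

theorem lam_one (a b : Ω) :
    lam a b (oneChar : IrrCharacter R) = Nat.card (MulAction.orbit (MulAction.stabilizer R a) b) :=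
  orbFun_inner_one a b

theorem lam_eq_zero (a b : Ω) {φ : IrrCharacter R} (h : mlt Ω φ = 0) : lam a b φ = 0 := by
  classical
  refine (orbital_inner (orbMat R a b) (orbMat_inv a b) φ.2).2.1 ?_
  rw [show (fun g : R => (Nat.card (MulAction.fixedBy Ω g) : ℂ)) = piFun R Ω from rfl, ← cast_mlt,
    h, Nat.cast_zero]

/-- The weighted sum of the eigenvalues vanishes. -/
theorem sum_deg_lam {a b : Ω} (hab : b ≠ a) :
    ∑ φ : IrrCharacter R, (φ : R → ℂ) 1 * lam a b φ = 0 := by
  classical
  rw [← Finset.add_sum_erase _ _ (Finset.mem_univ (oneChar : IrrCharacter R)), lam_one]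
  have h := orbFun_sum_eq (G := R) hab
  rw [show (oneChar : IrrCharacter R).1 1 = 1 from rfl, one_mul, add_eq_zero_iff_eq_neg', ← h]
  exact Finset.sum_congr rfl fun φ _ => mul_comm _ _

/-- The weighted sum of the squared absolute values of the eigenvalues. -/
theorem sum_deg_lam_sq (hm : ∀ φ : IrrCharacter R, mlt Ω φ ≤ 1) (a b : Ω) :
    ∑ φ : IrrCharacter R, (φ : R → ℂ) 1 * (lam a b φ * conj (lam a b φ)) =
      Fintype.card Ω * Nat.card (MulAction.orbit (MulAction.stabilizer R a) b) := by
  classical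
  set N := orbMat R a b with hN
  have hNi : ∀ (g : R) x y, N (g • x) (g • y) = N x y := orbMat_inv a b
  have hTi := inv_transpose hNi
  set M : Matrix Ω Ω ℤ := N * Nᵀ + Nᵀ * N with hM
  have hMi := inv_add (inv_mul hNi hTi) (inv_mul hTi hNi)
  have hinner : ∀ φ : IrrCharacter R, classInner (orbFun M) (φ : R → ℂ) =
      2 * (lam a b φ * conj (lam a b φ)) := by
    intro φ
    obtain ⟨-, hz, hpow⟩ := orbital_inner M hMi φ.2
    rcases (show mlt Ω φ = 0 ∨ mlt Ω φ = 1 by have := hm φ; omega) with h | h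
    · rw [hz (by rw [show (fun g : R => (Nat.card (MulAction.fixedBy Ω g) : ℂ)) = piFun R Ω from rfl,
        ← cast_mlt, h, Nat.cast_zero]), lam_eq_zero a b h, zero_mul, mul_zero]
    · have hpi : classInner (fun g : R => (Nat.card (MulAction.fixedBy Ω g) : ℂ)) (φ : R → ℂ) = 1 := by
        rw [show (fun g : R => (Nat.card (MulAction.fixedBy Ω g) : ℂ)) = piFun R Ω from rfl,
          ← cast_mlt, h, Nat.cast_one]
      have h1 := (orbital_inner N hNi φ.2).2.2 hpi 2
      have h2 := (orbital_inner Nᵀ hTi φ.2).2.2 hpi 2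
      have h3 := (orbital_inner (N + Nᵀ) (inv_add hNi hTi) φ.2).2.2 hpi 2
      rw [show (N + Nᵀ) ^ 2 = N ^ 2 + M + Nᵀ ^ 2 by rw [hM, sq, sq, sq, add_mul, mul_add, mul_add]; abel,
        orbFun_add (N ^ 2 + M), orbFun_add (N ^ 2) M, orbFun_add N Nᵀ, classInner_add_left, classInner_add_left,
        classInner_add_left, h1, h2,
        classInner_orbFun_transpose N (IsIrr.isCharacter φ.2)] at h3
      show classInner (orbFun M) (φ : R → ℂ) =
        2 * (classInner (orbFun N) (φ : R → ℂ) * conj (classInner (orbFun N) (φ : R → ℂ)))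
      linear_combination h3
  have hexp := congrFun (classFun_expansion (orbFun_isClassFunction M hMi)) 1
  simp only [Finset.sum_apply, Pi.smul_apply, smul_eq_mul, hinner] at hexp
  have hdiag : (orbFun M : R → ℂ) 1 =
      2 * (Fintype.card Ω * Nat.card (MulAction.orbit (MulAction.stabilizer R a) b)) := by
    have hNN : ∀ x y, N x y * N x y = N x y := fun x y => by
      simp only [hN, orbMat]
      split_ifs <;> norm_num
    have hone : ∑ x, M x x = 2 * ((Fintype.card Ω : ℤ) *
        Nat.card (MulAction.orbit (MulAction.stabilizer R a) b)) := by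
      simp only [hM, Matrix.add_apply, Matrix.mul_apply, Matrix.transpose_apply, hNN,
        Finset.sum_add_distrib]
      rw [Finset.sum_comm (f := fun x y => N y x), two_mul]
      simp only [hN, orbMat_row, Finset.sum_const, Finset.card_univ, nsmul_eq_mul]
    simp only [orbFun, one_smul, hone]
    push_cast
    ring
  rw [hdiag] at hexp
  refine mul_left_cancel₀ (two_ne_zero (α := ℂ)) ?_
  rw [hexp, Finset.mul_sum]
  exact Finset.sum_congr rfl fun φ _ => by ring

/-- Galois equivariance of the eigenvalues. -/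
theorem lam_sig (σ : ℂ →+* ℂ) (a b : Ω) (φ : IrrCharacter R) :
    lam a b (sigIrr σ φ) = σ (lam a b φ) := by
  have h := classInner_map σ (χ := (orbFun (orbMat R a b) : R → ℂ)) (IsIrr.isCharacter φ.2)
  rwa [show (fun g : R => σ (orbFun (orbMat R a b) g)) = orbFun (orbMat R a b) from
    funext fun g => map_intCast σ _] at h

open scoped Classical in
/-- The eigenvalues of the nontrivial orbitals add up to `-1`. -/
theorem sum_orbits_lam (a : Ω) {φ : IrrCharacter R} (hφ : φ ≠ oneChar) (hm : mlt Ω φ = 1)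
    [Fintype (MulAction.orbitRel.Quotient (MulAction.stabilizer R a) Ω)] :
    ∑ q ∈ Finset.univ.erase (Quotient.mk'' a : MulAction.orbitRel.Quotient (MulAction.stabilizer R a) Ω),
      lam a (Quotient.out q) φ = -1 := by
  set q0 : (MulAction.orbitRel.Quotient (MulAction.stabilizer R a) Ω) := Quotient.mk'' a with hq0
  have hout : Quotient.out q0 = a := by
    have h : (Quotient.mk'' (Quotient.out q0) : (MulAction.orbitRel.Quotient (MulAction.stabilizer R a) Ω)) = q0 := Quotient.out_eq' q0
    rw [hq0, Quotient.eq''] at h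
    obtain ⟨g, hg⟩ := MulAction.orbitRel_apply.1 h
    exact hg.symm.trans g.2
  have hall : ∀ x y : Ω, ∑ q : (MulAction.orbitRel.Quotient (MulAction.stabilizer R a) Ω), orbMat R a (Quotient.out q) x y = 1 := by
    intro x y
    obtain ⟨g, rfl⟩ := MulAction.exists_smul_eq R a x
    rw [Finset.sum_eq_single (Quotient.mk'' (g⁻¹ • y) : (MulAction.orbitRel.Quotient (MulAction.stabilizer R a) Ω))]
    · unfold orbMat
      rw [if_pos]
      obtain ⟨h, hh⟩ := MulAction.orbitRel_apply.1
        (Quotient.eq''.1 (Quotient.out_eq' (Quotient.mk'' (g⁻¹ • y) : (MulAction.orbitRel.Quotient (MulAction.stabilizer R a) Ω))).symm :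
          MulAction.orbitRel (MulAction.stabilizer R a) Ω (g⁻¹ • y) _)
      refine ⟨g * h, by rw [mul_smul, MulAction.mem_stabilizer_iff.1 h.2], ?_⟩
      rw [mul_smul]
      exact eq_inv_smul_iff.1 hh
    · intro q _ hq
      unfold orbMat
      rw [if_neg]
      rintro ⟨u, hu, rfl⟩
      refine hq ?_
      rw [← Quotient.out_eq' q, Quotient.eq'', MulAction.orbitRel_apply, Quotient.out_eq']
      refine ⟨⟨(g⁻¹ * u)⁻¹, ?_⟩, ?_⟩
      · rw [MulAction.mem_stabilizer_iff, inv_smul_eq_iff, mul_smul, eq_inv_smul_iff, hu]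
      · show (g⁻¹ * u)⁻¹ • g⁻¹ • u • Quotient.out q = Quotient.out q
        simp [mul_smul]
    · simp
  have hfun : ∀ g : R, ∑ q : (MulAction.orbitRel.Quotient (MulAction.stabilizer R a) Ω), (orbFun (orbMat R a (Quotient.out q)) : R → ℂ) g = Fintype.card Ω := by
    intro g
    simp only [orbFun, Int.cast_sum]
    rw [Finset.sum_comm]
    simp only [← Int.cast_sum, hall, Finset.sum_const, Finset.card_univ, nsmul_eq_mul, mul_one,
      Int.cast_natCast]
  have htot : ∑ q : (MulAction.orbitRel.Quotient (MulAction.stabilizer R a) Ω), lam a (Quotient.out q) φ = 0 := by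
    simp only [lam, ← classInner_sum_left]
    have : (∑ q : (MulAction.orbitRel.Quotient (MulAction.stabilizer R a) Ω), orbFun (orbMat R a (Quotient.out q))) =
        (Fintype.card Ω : ℂ) • (fun _ : R => (1 : ℂ)) := funext fun g => by
      simp [hfun g]
    rw [this, classInner_smul_left,
      classInner_irr_ne isIrrCharacter_one φ.2 (fun e => hφ (Subtype.ext e.symm)), mul_zero]
  have hdiag : lam a (Quotient.out q0) φ = 1 := by
    rw [hout]
    unfold lam
    have : orbMat R a a = 1 := by
      ext x y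
      unfold orbMat
      rw [Matrix.one_apply]
      obtain ⟨g, rfl⟩ := MulAction.exists_smul_eq R a x
      split_ifs with h h' h'
      · rfl
      · obtain ⟨u, h1, h2⟩ := h
        exact absurd (h1.symm.trans h2) h'
      · exact absurd ⟨g, rfl, h'⟩ h
      · rfl
    rw [this, ← pow_zero (1 : Matrix Ω Ω ℤ), orbFun_pow_zero,
      show (fun g : R => (Nat.card (MulAction.fixedBy Ω g) : ℂ)) = piFun R Ω from rfl, ← cast_mlt,
      hm, Nat.cast_one]
  rw [← Finset.add_sum_erase _ _ (Finset.mem_univ q0), hdiag] at htot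
  exact eq_neg_of_add_eq_zero_right htot

end Cfsg.Agent.DegreeTwoP
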