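import Cfsg.Agent.DegreeTwoP.Excess
import Cfsg.Agent.DegreeTwoP.Eigen
import Cfsg.Agent.DegreeTwoP.Arith

/-!
# Wielandt degree `2p`: the rank three case and the exclusion of rank four
-/

set_option maxHeartbeats 1000000

namespace Cfsg.Agent.DegreeTwoP

open scoped ComplexConjugate
open Cfsg.Agent.Char Module

universe u v

variable {R : Type u} [Group R] [Fintype R] {Ω : Type v} [Fintype Ω] [MulAction R Ω]
  [MulAction.IsPretransitive R Ω] {p : ℕ} [hp : Fact p.Prime] {x : R}

theorem Shape.mlt_le_one (H : Hyp R Ω p x) (S : Shape R Ω x p) (φ : IrrCharacter R) :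
    mlt Ω φ ≤ 1 := by
  by_contra h
  rcases S.support φ (by omega) with rfl | rfl | h'
  · rw [H.mlt_one] at h; omega
  · rw [S.mlt0] at h; omega
  · rw [S.mltX φ h'] at h; omega

/-- A sum over the constituents. -/
theorem Shape.sum_split (S : Shape R Ω x p) (f : IrrCharacter R → ℂ)
    (hf : ∀ φ, mlt Ω φ = 0 → f φ = 0) :
    ∑ φ : IrrCharacter R, f φ = f oneChar + (f S.φ0 + ∑ φ ∈ S.X, f φ) := by
  classical
  rw [← Finset.sum_subset (Finset.subset_univ (insert oneChar (insert S.φ0 S.X))) fun φ _ hφ => ?_,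
    Finset.sum_insert (by simp [S.ne_one.symm, S.one_notMem]), Finset.sum_insert S.zero_notMem]
  refine hf φ (by_contra fun h => hφ ?_)
  simp only [Finset.mem_insert]
  exact S.support φ h

omit [MulAction.IsPretransitive R Ω] in
theorem Hyp.two_le_orbit (H : Hyp R Ω p x) {a b : Ω} (hab : b ≠ a) :
    2 ≤ Nat.card (MulAction.orbit (MulAction.stabilizer R a) b) := by
  by_contra h
  have : Subsingleton (MulAction.orbit (MulAction.stabilizer R a) b) :=
    Finite.card_le_one_iff_subsingleton.1 (by omega)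
  exact hab (H.fixOne a b fun g hg => congrArg Subtype.val
    (Subsingleton.elim (⟨g • b, ⟨⟨g, hg⟩, rfl⟩⟩ : MulAction.orbit (MulAction.stabilizer R a) b)
      ⟨b, MulAction.mem_orbit_self b⟩))

omit [MulAction.IsPretransitive R Ω] in
theorem lam_mem_cyc (a b : Ω) (φ : IrrCharacter R) : lam a b φ ∈ cycField (Nat.card R) := by
  refine mul_mem (inv_mem (natCast_mem _ _)) (sum_mem fun g _ => mul_mem ?_ ?_)
  · exact intCast_mem _ _
  · rw [← IsChar.inv_eq_conj (IsIrr.isCharacter φ.2)]
    exact IsChar.mem_cycField (IsIrr.isCharacter φ.2) _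

omit [MulAction.IsPretransitive R Ω] in
/-- An algebraic integer of the cyclotomic field fixed by Galois is a rational integer. -/
theorem exists_int_fixed (H : Hyp R Ω p x) {z : ℂ} (hint : IsIntegral ℤ z)
    (hz : z ∈ cycField (Nat.card R))
    (h : ∀ (σ : ℂ →+* ℂ) (K : ℕ) (k : (ZMod p)ˣ),
      (∀ χ : R → ℂ, IsCharacter R χ → ∀ g, σ (χ g) = χ (g ^ K)) → (K : ZMod p) = k → σ z = z) :
    ∃ n : ℤ, z = n := by
  obtain ⟨q, rfl⟩ := exists_rat_of_fixed Nat.card_pos.ne' hz fun K σ hK hσ => by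
    refine h σ K (ZMod.unitOfCoprime K (hK.coprime_dvd_right H.dvd_card)) (fun χ hχ g => ?_)
      (ZMod.coe_unitOfCoprime _ _).symm
    exact galois_apply_pow σ hσ hχ (orderOf_dvd_natCard g)
  obtain ⟨n, hn⟩ := exists_int_of_isIntegral_rat hint
  exact ⟨n, by rw [← hn]; simp⟩

theorem Shape.lam_zero_int (H : Hyp R Ω p x) (S : Shape R Ω x p) (a b : Ω) :
    ∃ n : ℤ, lam a b S.φ0 = n :=
  exists_int_fixed H (lam_isIntegral a b _) (lam_mem_cyc a b _) fun σ K k hσ hk => by
    rw [← lam_sig, S.sigIrr_zero H hσ hk]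

/-- The two equations attached to an orbital. -/
theorem Shape.equations (H : Hyp R Ω p x) (S : Shape R Ω x p) {a b : Ω} (hab : b ≠ a) :
    ((Nat.card (MulAction.orbit (MulAction.stabilizer R a) b) : ℂ) + p * lam a b S.φ0 +
        S.e * ∑ φ ∈ S.X, lam a b φ = 0) ∧
    ((Nat.card (MulAction.orbit (MulAction.stabilizer R a) b) : ℂ) ^ 2 +
        p * (lam a b S.φ0 * conj (lam a b S.φ0)) +
        S.e * ∑ φ ∈ S.X, lam a b φ * conj (lam a b φ) =
      2 * p * Nat.card (MulAction.orbit (MulAction.stabilizer R a) b)) := by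
  have h1 := sum_deg_lam (R := R) hab
  have h2 := sum_deg_lam_sq (S.mlt_le_one H) a b
  rw [S.sum_split _ fun φ hφ => by rw [lam_eq_zero a b hφ, mul_zero],
    lam_one, S.deg_zero H, Finset.sum_congr rfl fun φ hφ => by rw [S.deg_X H.pow hφ],
    ← Finset.mul_sum, show (oneChar : IrrCharacter R).1 1 = 1 from rfl, one_mul] at h1
  rw [S.sum_split _ fun φ hφ => by rw [lam_eq_zero a b hφ, zero_mul, mul_zero],
    lam_one, S.deg_zero H, Finset.sum_congr rfl fun φ hφ => by rw [S.deg_X H.pow hφ],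
    ← Finset.mul_sum, show (oneChar : IrrCharacter R).1 1 = 1 from rfl, one_mul, H.card,
    Complex.conj_natCast] at h2
  push_cast at h2
  exact ⟨by linear_combination h1, by linear_combination h2⟩

omit [MulAction.IsPretransitive R Ω] in
theorem out_ne (a : Ω) {q : MulAction.orbitRel.Quotient (MulAction.stabilizer R a) Ω}
    (hq : q ≠ Quotient.mk'' a) : Quotient.out q ≠ a := fun h => hq (by
  rw [← Quotient.out_eq' q, h])

omit [Fintype R] [MulAction.IsPretransitive R Ω] in
theorem card_orbit_out (a b : Ω) :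
    Nat.card (MulAction.orbit (MulAction.stabilizer R a) b) =
    Nat.card (MulAction.orbit (MulAction.stabilizer R a)
      (Quotient.out (Quotient.mk'' b : MulAction.orbitRel.Quotient (MulAction.stabilizer R a) Ω))) := by
  have h : MulAction.orbit (MulAction.stabilizer R a)
      (Quotient.out (Quotient.mk'' b : MulAction.orbitRel.Quotient (MulAction.stabilizer R a) Ω)) =
      MulAction.orbit (MulAction.stabilizer R a) b :=
    MulAction.orbit_eq_iff.2 (MulAction.orbitRel_apply.1 (Quotient.exact' (Quotient.out_eq' _)))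
  rw [h]

/-- Rank three: the arithmetic of the subdegrees. -/
theorem Shape.rank_three (H : Hyp R Ω p x) (S : Shape R Ω x p) (hX : S.X.card = 1) (w : Ω) :
    ∀ b : Ω, b ≠ w →
      (2 * (Nat.card (MulAction.orbit (MulAction.stabilizer R w) b) : ℤ) - (2 * p - 1)) ^ 2 =
        2 * p - 1 := by
  classical
  let _ := Fintype.ofFinite (MulAction.orbitRel.Quotient (MulAction.stabilizer R w) Ω)
  obtain ⟨χ, hXeq⟩ := Finset.card_eq_one.1 hX
  have hχ : χ ∈ S.X := by rw [hXeq]; exact Finset.mem_singleton_self χ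
  have he : (S.e : ℤ) = (p : ℤ) - 1 := by
    have h := S.cardX
    rw [hX, one_mul] at h
    have := hp.1.two_le
    omega
  have hfix : ∀ b, ∃ n : ℤ, lam w b χ = n := fun b =>
    exists_int_fixed H (lam_isIntegral w b _) (lam_mem_cyc w b _) fun σ K k hσ hk => by
      have h := S.sigIrr_mem H hσ hk hχ
      simp only [hXeq, Finset.mem_singleton] at h
      rw [← lam_sig, h]
  have key : ∀ b, b ≠ w → ∀ z m : ℤ, lam w b S.φ0 = z → lam w b χ = m →
      z + m ≤ -1 ∧ (z + m = -1 →
        (2 * (Nat.card (MulAction.orbit (MulAction.stabilizer R w) b) : ℤ) - (2 * p - 1)) ^ 2 =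
          2 * p - 1) := by
    intro b hb z m hz hm
    obtain ⟨e1, e2⟩ := S.equations H hb
    have hec : (S.e : ℂ) = (((p : ℤ) - 1 : ℤ) : ℂ) := by rw [← he, Int.cast_natCast]
    simp only [hXeq, Finset.sum_singleton, hz, hm, hec, map_intCast] at e1 e2
    refine three_bound hp.1.one_lt (by exact_mod_cast H.two_le_orbit hb) ?_ ?_
    · exact_mod_cast e1
    · apply Int.cast_injective (α := ℂ)
      push_cast at e2 ⊢
      linear_combination e2
  set q0 : MulAction.orbitRel.Quotient (MulAction.stabilizer R w) Ω := Quotient.mk'' w with hq0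
  choose z hz using fun q : MulAction.orbitRel.Quotient (MulAction.stabilizer R w) Ω =>
    S.lam_zero_int H w (Quotient.out q)
  choose m hm using fun q : MulAction.orbitRel.Quotient (MulAction.stabilizer R w) Ω =>
    hfix (Quotient.out q)
  have hsum : ∑ q ∈ Finset.univ.erase q0, (z q + m q) = -2 := by
    have s1 := sum_orbits_lam w S.ne_one S.mlt0
    have s2 := sum_orbits_lam w (S.ne_one_of_mem hχ) (S.mltX χ hχ)
    simp only [hz] at s1
    simp only [hm] at s2
    rw [← Int.cast_sum] at s1 s2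
    have t1 : ∑ q ∈ Finset.univ.erase q0, z q = -1 := by exact_mod_cast s1
    have t2 : ∑ q ∈ Finset.univ.erase q0, m q = -1 := by exact_mod_cast s2
    rw [Finset.sum_add_distrib, t1, t2]
    norm_num
  have hcard : (Finset.univ.erase q0).card = 2 := by
    rw [Finset.card_erase_of_mem (Finset.mem_univ _), Finset.card_univ, ← Nat.card_eq_fintype_card,
      rank_eq w, S.mlt_sum H, hX]
  have hall : ∀ q ∈ Finset.univ.erase q0, z q + m q = -1 := by
    have hle : ∀ q ∈ Finset.univ.erase q0, z q + m q ≤ -1 := fun q hq =>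
      (key _ (out_ne w (Finset.ne_of_mem_erase hq)) _ _ (hz q) (hm q)).1
    refine (Finset.sum_eq_sum_iff_of_le hle).1 ?_
    rw [hsum, Finset.sum_const, hcard]
    norm_num
  intro b hb
  rw [card_orbit_out w b]
  set q : MulAction.orbitRel.Quotient (MulAction.stabilizer R w) Ω := Quotient.mk'' b
  have hq : q ∈ Finset.univ.erase q0 := by
    refine Finset.mem_erase.2 ⟨fun h => hb ?_, Finset.mem_univ _⟩
    obtain ⟨g, hg⟩ := MulAction.orbitRel_apply.1 (Quotient.exact' h)
    exact hg.symm.trans g.2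
  exact (key _ (out_ne w (Finset.ne_of_mem_erase hq)) _ _ (hz q) (hm q)).2 (hall q hq)

/-- The squared absolute value of the difference of the two half Gauss sums is `p`. -/
theorem Shape.gauss_sq (H : Hyp R Ω p x) (S : Shape R Ω x p) {χ χ' : IrrCharacter R}
    (hne : χ ≠ χ') (hX : S.X = {χ, χ'}) :
    ((χ : R → ℂ) x - (χ' : R → ℂ) x) * conj ((χ : R → ℂ) x - (χ' : R → ℂ) x) = p := by
  classical
  have h2 : 2 ≤ S.X.card := by rw [hX, Finset.card_pair hne]
  have hval : ∀ φ : IrrCharacter R, (φ : R → ℂ) x =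
      ∑ s : ZMod p, (cn x (φ : R → ℂ) s : ℂ) * ZMod.stdAddChar s := fun φ => by
    have h := cf_inv (x := x) (φ : R → ℂ) (1 : ZMod p)
    rw [pw_one] at h
    rw [h]
    exact Finset.sum_congr rfl fun s _ => by rw [one_mul, cast_cn H.pow (IsIrr.isCharacter φ.2)]
  have hS0 : ∑ s ∈ Finset.univ.erase (0 : ZMod p), ZMod.stdAddChar s = (-1 : ℂ) := by
    have h := sum_stdAddChar (1 : ZMod p)
    simp only [mul_one, one_ne_zero, if_false] at h
    rw [← Finset.add_sum_erase _ _ (Finset.mem_univ (0 : ZMod p)), AddChar.map_zero_eq_one] at h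
    linear_combination h
  have hO : ∀ φ ∈ (insert oneChar S.X)ᶜ, (φ : R → ℂ) x =
      (((cn x (φ : R → ℂ) (0 : ZMod p) : ℤ) - cn x (φ : R → ℂ) (1 : ZMod p) : ℤ) : ℂ) := by
    intro φ hφ
    rw [Finset.mem_compl, Finset.mem_insert, not_or] at hφ
    rw [hval, ← Finset.add_sum_erase _ _ (Finset.mem_univ (0 : ZMod p)), AddChar.map_zero_eq_one,
      Finset.sum_congr rfl fun s hs => by rw [S.const H h2 hφ.2 (Finset.ne_of_mem_erase hs) one_ne_zero],
      ← Finset.mul_sum, hS0]
    push_cast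
    ring
  have hadd : (χ : R → ℂ) x + (χ' : R → ℂ) x = -1 := by
    rw [hval, hval, ← Finset.sum_add_distrib, ← Finset.add_sum_erase _ _ (Finset.mem_univ (0 : ZMod p)),
      S.cnX0 χ (by simp [hX]), S.cnX0 χ' (by simp [hX]), ← hS0]
    simp only [Nat.cast_zero, zero_mul, add_zero, zero_add]
    refine Finset.sum_congr rfl fun s hs => ?_
    have h := S.sumX s (Finset.ne_of_mem_erase hs)
    rw [hX, Finset.sum_pair hne] at h
    rw [← add_mul, ← Nat.cast_add, h, Nat.cast_one, one_mul]
  have htot : ∑ φ : IrrCharacter R, (φ : R → ℂ) x * conj ((φ : R → ℂ) x) = p := by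
    rw [second_orthogonality, if_pos (IsConj.refl x)]
    have h := H.card_centralizer (one_ne_zero (α := ZMod p))
    rw [pw_one] at h
    rw [h]
  rw [← Finset.sum_add_sum_compl (insert oneChar S.X), Finset.sum_insert S.one_notMem, hX,
    Finset.sum_pair hne, ← hX] at htot
  have hrest : ∑ φ ∈ (insert oneChar S.X)ᶜ, (φ : R → ℂ) x * conj ((φ : R → ℂ) x) = (S.e : ℂ) - 1 := by
    have h := congrArg (fun z : ℤ => (z : ℂ)) (S.sum_sq_excess H h2)
    rw [Finset.sum_congr rfl fun φ hφ => by rw [hO φ hφ, map_intCast, ← sq]]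
    push_cast at h ⊢
    exact h
  rw [hrest, show (oneChar : IrrCharacter R).1 x = 1 from rfl, map_one, one_mul] at htot
  have he : (p : ℂ) = 2 * S.e + 1 := by
    have h := S.cardX
    rw [hX, Finset.card_pair hne] at h
    have := hp.1.two_le
    have h' : p = 2 * S.e + 1 := by omega
    exact_mod_cast congrArg (fun n : ℕ => (n : ℂ)) h'
  have hadd' := congrArg conj hadd
  rw [map_add, map_neg, map_one] at hadd'
  rw [map_sub]
  linear_combination 2 * htot + he - conj ((χ : R → ℂ) x) * hadd - conj ((χ' : R → ℂ) x) * hadd + hadd'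

/-- Rank four is impossible. -/
theorem Shape.not_four (H : Hyp R Ω p x) (S : Shape R Ω x p) : S.X.card ≠ 2 := by
  classical
  intro hX
  obtain ⟨χ, χ', hne, hXeq⟩ := Finset.card_eq_two.1 hX
  have hχ : χ ∈ S.X := by simp [hXeq]
  have hχ' : χ' ∈ S.X := by simp [hXeq]
  have hpe : p = 2 * S.e + 1 := by
    have h := S.cardX
    rw [hX] at h
    have := hp.1.two_le
    omega
  have : Nonempty Ω := Fintype.card_pos_iff.1 (by rw [H.card]; have := hp.1.pos; omega)
  obtain ⟨w⟩ := this
  let _ := Fintype.ofFinite (MulAction.orbitRel.Quotient (MulAction.stabilizer R w) Ω)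
  have hswap : ∀ (σ : ℂ →+* ℂ) (K : ℕ) (k : (ZMod p)ˣ),
      (∀ ψ : R → ℂ, IsCharacter R ψ → ∀ g, σ (ψ g) = ψ (g ^ K)) → (K : ZMod p) = k →
      (sigIrr σ χ = χ ∧ sigIrr σ χ' = χ') ∨ (sigIrr σ χ = χ' ∧ sigIrr σ χ' = χ) := by
    intro σ K k hσ hk
    have h1 := S.sigIrr_mem H hσ hk hχ
    have h2 := S.sigIrr_mem H hσ hk hχ'
    have h3 : sigIrr σ χ ≠ sigIrr σ χ' := fun h => hne (sigIrr_injective σ h)
    simp only [hXeq, Finset.mem_insert, Finset.mem_singleton] at h1 h2
    rcases h1 with h1 | h1 <;> rcases h2 with h2 | h2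
    · exact absurd (h1.trans h2.symm) h3
    · exact Or.inl ⟨h1, h2⟩
    · exact Or.inr ⟨h1, h2⟩
    · exact absurd (h1.trans h2.symm) h3
  have key : ∀ b, b ≠ w → ∃ z c : ℤ, lam w b S.φ0 = z ∧ lam w b χ + lam w b χ' = c ∧ 2 * z + c ≤ -2 := by
    intro b hb
    obtain ⟨z, hz⟩ := S.lam_zero_int H w b
    obtain ⟨c, hc⟩ : ∃ c : ℤ, lam w b χ + lam w b χ' = c :=
      exists_int_fixed H ((lam_isIntegral w b χ).add (lam_isIntegral w b χ'))
        (add_mem (lam_mem_cyc w b χ) (lam_mem_cyc w b χ')) fun σ K k hσ hk => by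
          rw [map_add, ← lam_sig, ← lam_sig]
          rcases hswap σ K k hσ hk with ⟨h1, h2⟩ | ⟨h1, h2⟩
          · rw [h1, h2]
          · rw [h1, h2, add_comm]
    set G : ℂ := (χ : R → ℂ) x - (χ' : R → ℂ) x with hG
    obtain ⟨q, hq⟩ : ∃ q : ℤ, (lam w b χ - lam w b χ') * G = q := by
      refine exists_int_fixed H (((lam_isIntegral w b χ).sub (lam_isIntegral w b χ')).mul
        ((IsChar.isIntegral (IsIrr.isCharacter χ.2) x).sub (IsChar.isIntegral (IsIrr.isCharacter χ'.2) x)))
        (mul_mem (sub_mem (lam_mem_cyc w b χ) (lam_mem_cyc w b χ'))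
          (sub_mem (IsChar.mem_cycField (IsIrr.isCharacter χ.2) x)
            (IsChar.mem_cycField (IsIrr.isCharacter χ'.2) x))) fun σ K k hσ hk => ?_
      rw [map_mul, map_sub, hG, map_sub, ← lam_sig, ← lam_sig]
      show _ * ((sigIrr σ χ : R → ℂ) x - (sigIrr σ χ' : R → ℂ) x) = _
      rcases hswap σ K k hσ hk with ⟨h1, h2⟩ | ⟨h1, h2⟩
      · rw [h1, h2]
      · rw [h1, h2]; ring
    obtain ⟨e1, e2⟩ := S.equations H hb
    simp only [hXeq, Finset.sum_pair hne] at e1 e2
    set k : ℕ := Nat.card (MulAction.orbit (MulAction.stabilizer R w) b) with hk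
    set Mc : ℂ := lam w b χ * conj (lam w b χ) + lam w b χ' * conj (lam w b χ') with hMc
    have hMint : IsIntegral ℤ Mc :=
      ((lam_isIntegral w b χ).mul ((lam_isIntegral w b χ).map (starRingEnd ℂ).toIntAlgHom)).add
        ((lam_isIntegral w b χ').mul ((lam_isIntegral w b χ').map (starRingEnd ℂ).toIntAlgHom))
    have he0 : (S.e : ℂ) ≠ 0 := Nat.cast_ne_zero.2 S.e_pos.ne'
    obtain ⟨M, hM⟩ : ∃ M : ℤ, Mc = M := by
      have hrat : Mc = (((2 * p * k - k ^ 2 - p * z ^ 2 : ℤ) / S.e : ℚ) : ℂ) := by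
        push_cast
        rw [eq_div_iff he0]
        rw [hz, map_intCast] at e2
        linear_combination e2
      rw [hrat] at hMint ⊢
      obtain ⟨n, hn⟩ := exists_int_of_isIntegral_rat hMint
      exact ⟨n, by rw [← hn]; simp⟩
    have hnorm : ((q : ℂ)) ^ 2 = (p : ℂ) * (2 * M - c ^ 2) := by
      have hconj := congrArg conj hq
      rw [map_intCast, map_mul] at hconj
      have hcc := congrArg conj hc
      rw [map_intCast, map_add] at hcc
      have hgs : G * conj G = p := S.gauss_sq H hne hXeq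
      rw [sq]
      calc (q : ℂ) * q = ((lam w b χ - lam w b χ') * G) * (conj (lam w b χ - lam w b χ') * conj G) := by
            rw [hq, hconj]
        _ = (G * conj G) * (2 * Mc -
            (lam w b χ + lam w b χ') * (conj (lam w b χ) + conj (lam w b χ'))) := by
            rw [hMc, map_sub]; ring
        _ = _ := by rw [hgs, hc, hcc, hM]; ring
    have hnormZ : q ^ 2 = (p : ℤ) * (2 * M - c ^ 2) := by
      apply Int.cast_injective (α := ℂ)
      push_cast
      exact hnorm
    obtain ⟨t, rfl⟩ : (p : ℤ) ∣ q :=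
      (Nat.prime_iff_prime_int.1 hp.1).dvd_of_dvd_pow (n := 2) (hnormZ ▸ dvd_mul_right _ _)
    have h3 : 2 * M = c ^ 2 + p * t ^ 2 := by
      refine mul_left_cancel₀ (show (p : ℤ) ≠ 0 by exact_mod_cast hp.1.ne_zero) ?_
      linear_combination -hnormZ
    refine ⟨z, c, hz, hc, four_bound hp.1 hpe (k := (k : ℤ)) (z := z) (c := c) (M := M) (t := t)
      (by exact_mod_cast H.two_le_orbit hb) ?_ ?_ h3⟩
    · apply Int.cast_injective (α := ℂ)
      push_cast
      rw [hz, hc] at e1
      exact e1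
    · apply Int.cast_injective (α := ℂ)
      push_cast
      rw [hz, map_intCast, hM] at e2
      linear_combination e2
  set q0 : MulAction.orbitRel.Quotient (MulAction.stabilizer R w) Ω := Quotient.mk'' w with hq0
  have hex : ∀ q ∈ Finset.univ.erase q0, ∃ l : ℤ, l ≤ -2 ∧
      2 * lam w (Quotient.out q) S.φ0 + lam w (Quotient.out q) χ + lam w (Quotient.out q) χ' = l := by
    intro q hq
    obtain ⟨z, c, hz, hc, hle⟩ := key _ (out_ne w (Finset.ne_of_mem_erase hq))
    exact ⟨2 * z + c, hle, by push_cast; rw [add_assoc, hz, hc]⟩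
  choose! l hl hl' using hex
  have hsum : ∑ q ∈ Finset.univ.erase q0, l q = -4 := by
    apply Int.cast_injective (α := ℂ)
    push_cast
    rw [← Finset.sum_congr rfl hl', Finset.sum_add_distrib, Finset.sum_add_distrib, ← Finset.mul_sum,
      sum_orbits_lam w S.ne_one S.mlt0, sum_orbits_lam w (S.ne_one_of_mem hχ) (S.mltX χ hχ),
      sum_orbits_lam w (S.ne_one_of_mem hχ') (S.mltX χ' hχ')]
    norm_num
  have hcard : (Finset.univ.erase q0).card = 3 := by
    rw [Finset.card_erase_of_mem (Finset.mem_univ _), Finset.card_univ, ← Nat.card_eq_fintype_card,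
      rank_eq w, S.mlt_sum H, hX]
  have hle := Finset.sum_le_sum hl
  rw [hsum, Finset.sum_const, hcard] at hle
  norm_num at hle

/-- Wielandt's theorem for the normal closure: rank two, or rank three with the known
subdegrees. -/
theorem Hyp.main (H : Hyp R Ω p x) (w : Ω) :
    Nat.card (MulAction.orbitRel.Quotient (MulAction.stabilizer R w) Ω) = 2 ∨
    (Nat.card (MulAction.orbitRel.Quotient (MulAction.stabilizer R w) Ω) = 3 ∧
      ∃ a : ℕ, 0 < a ∧ p = 2 * a ^ 2 + 2 * a + 1 ∧ ∀ b : Ω, b ≠ w →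
        Nat.card (MulAction.orbit (MulAction.stabilizer R w) b) = a * (2 * a + 1) ∨
        Nat.card (MulAction.orbit (MulAction.stabilizer R w) b) = (a + 1) * (2 * a + 1)) := by
  rcases H.rank_two_or_shape with h | ⟨⟨S⟩⟩
  · exact Or.inl ((rank_eq w).trans h)
  · right
    have h2 := S.card_le_two H
    have h1 := S.not_four H
    have h0 : S.X.card ≠ 0 := by
      intro h
      have h' := S.cardX
      rw [h, zero_mul] at h'
      have := hp.1.two_le
      omega
    have hX : S.X.card = 1 := by omega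
    refine ⟨by rw [rank_eq w, S.mlt_sum H, hX], ?_⟩
    have hall := S.rank_three H hX w
    obtain ⟨b, hb⟩ : ∃ b : Ω, b ≠ w :=
      Fintype.exists_ne_of_one_lt_card (by rw [H.card]; have := hp.1.pos; omega) w
    obtain ⟨a, ha, hpa⟩ := exists_param hp.1.one_lt (hall b hb)
    exact ⟨a, ha, hpa, fun b hb => subdegree_eq hpa (hall b hb)⟩

end Cfsg.Agent.DegreeTwoP
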