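import Cfsg.Agent.DegreeTwoP.Setup

/-!
# Wielandt degree `2p`: the constituents of the permutation character
-/

set_option maxHeartbeats 800000

namespace Cfsg.Agent.DegreeTwoP

open scoped ComplexConjugate
open Cfsg.Agent.Char Module

universe u v

variable {R : Type u} [Group R] [Fintype R] {Ω : Type v} [Fintype Ω] [MulAction R Ω]
  [MulAction.IsPretransitive R Ω] {p : ℕ} [hp : Fact p.Prime] {x : R}

omit [MulAction.IsPretransitive R Ω] in
theorem Hyp.sum_cn (H : Hyp R Ω p x) {φ : R → ℂ} (h : IsCharacter R φ) :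
    ((∑ s : ZMod p, cn x φ s : ℕ) : ℂ) = φ 1 := by
  rw [← sum_cf (x := x) (p := p) φ]
  push_cast
  exact Finset.sum_congr rfl fun s _ => cast_cn H.pow h s

theorem cn_one (H : Hyp R Ω p x) (s : ZMod p) :
    cn x (oneChar : IrrCharacter R).1 s = if s = 0 then 1 else 0 := by
  have h := cast_cn H.pow (IsIrr.isCharacter (oneChar : IrrCharacter R).2) s
  rw [cf] at h
  simp only [oneChar, one_mul] at h
  have h2 : ∑ j : ZMod p, ZMod.stdAddChar (-(j * s)) = if s = 0 then (p : ℂ) else 0 := by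
    rw [← if_congr neg_eq_zero rfl rfl, ← sum_stdAddChar]
    exact Finset.sum_congr rfl fun j _ => congrArg _ (by ring)
  rw [h2] at h
  split_ifs at h ⊢
  · rw [inv_mul_cancel₀ (p_ne (p := p))] at h
    exact Nat.cast_eq_one.1 h
  · rw [mul_zero] at h
    exact_mod_cast h

omit [MulAction.IsPretransitive R Ω] in
/-- A nontrivial irreducible character has a nontrivial eigenvalue at `x`. -/
theorem Hyp.exists_cn_ne (H : Hyp R Ω p x) {φ : IrrCharacter R} (h1 : φ ≠ oneChar) :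
    ∃ s : ZMod p, s ≠ 0 ∧ cn x (φ : R → ℂ) s ≠ 0 := by
  by_contra! hall
  have hc := IsIrr.isCharacter φ.2
  have hx : (φ : R → ℂ) x = (φ : R → ℂ) 1 := eq_deg_of_cf (p := p) fun s hs => by
    rw [← cast_cn H.pow hc s, hall s hs, Nat.cast_zero]
  have hker : ∀ g : R, (φ : R → ℂ) g = (φ : R → ℂ) 1 := fun g => by
    have : Subgroup.normalClosure ({x} : Set R) ≤ kerSubgroup hc :=
      Subgroup.normalClosure_le_normal (by simpa using hx)
    rw [H.gen] at this
    exact this (Subgroup.mem_top g)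
  have h0 := classInner_irr_ne φ.2 isIrrCharacter_one fun e => h1 (Subtype.ext e)
  simp only [classInner, map_one, mul_one, hker, Finset.sum_const, Finset.card_univ, nsmul_eq_mul,
    Nat.card_eq_fintype_card] at h0
  rw [inv_mul_cancel_left₀ (Nat.cast_ne_zero.2 Fintype.card_ne_zero)] at h0
  exact IsIrr.one_ne_zero φ.2 h0

/-- The action of a field embedding on irreducible characters. -/
noncomputable def sigIrr (σ : ℂ →+* ℂ) (φ : IrrCharacter R) : IrrCharacter R :=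
  ⟨fun g => σ ((φ : R → ℂ) g), isIrr_map σ φ.2⟩

theorem sigIrr_injective (σ : ℂ →+* ℂ) : Function.Injective (sigIrr (R := R) σ) := fun _ _ h =>
  Subtype.ext (funext fun g => σ.injective (congrFun (congrArg Subtype.val h) g))

theorem sigIrr_one (σ : ℂ →+* ℂ) : sigIrr σ (oneChar : IrrCharacter R) = oneChar :=
  Subtype.ext (funext fun _ => map_one σ)

theorem mlt_sigIrr (σ : ℂ →+* ℂ) (φ : IrrCharacter R) :
    mlt Ω (sigIrr σ φ) = mlt Ω φ := by
  have h := classInner_map σ (χ := piFun R Ω) (IsIrr.isCharacter φ.2)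
  have hpi : (fun g => σ (piFun R Ω g)) = piFun R Ω := funext fun g => map_natCast σ _
  rw [hpi, ← cast_mlt, map_natCast] at h
  rw [show classInner (piFun R Ω) (fun g => σ ((φ : R → ℂ) g)) = (mlt Ω (sigIrr σ φ) : ℂ) from
    (cast_mlt (sigIrr σ φ)).symm] at h
  exact_mod_cast h

omit [MulAction.IsPretransitive R Ω] in
theorem Hyp.dvd_card (H : Hyp R Ω p x) : p ∣ Nat.card R := H.order ▸ orderOf_dvd_natCard x

omit [MulAction.IsPretransitive R Ω] in
/-- The multiplicities of a Galois conjugate. -/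
theorem Hyp.cn_sigIrr (H : Hyp R Ω p x) {σ : ℂ →+* ℂ} {K : ℕ} {k : (ZMod p)ˣ}
    (hσ : ∀ (χ : R → ℂ), IsCharacter R χ → ∀ g, σ (χ g) = χ (g ^ K))
    (hk : (K : ZMod p) = k) (φ : IrrCharacter R) (s : ZMod p) :
    cn x (sigIrr σ φ : R → ℂ) ((k : ZMod p) * s) = cn x (φ : R → ℂ) s := by
  have he : ((sigIrr σ φ : IrrCharacter R) : R → ℂ) = fun g => (φ : R → ℂ) (g ^ K) :=
    funext fun g => hσ _ (IsIrr.isCharacter φ.2) g
  unfold cn
  rw [he, cf_pow H.pow _ hk]

omit [MulAction.IsPretransitive R Ω] in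
theorem Hyp.exists_sigma (H : Hyp R Ω p x) (k : (ZMod p)ˣ) :
    ∃ (σ : ℂ →+* ℂ) (K : ℕ),
      (∀ (χ : R → ℂ), IsCharacter R χ → ∀ g, σ (χ g) = χ (g ^ K)) ∧ (K : ZMod p) = k := by
  obtain ⟨K, hK, hk⟩ := exists_coprime_lift Nat.card_pos.ne' H.dvd_card k
  obtain ⟨σ, hσ⟩ := exists_galois_pow (G := R) K hK
  exact ⟨σ, K, fun χ hχ g => hσ hχ g, hk⟩

omit [MulAction.IsPretransitive R Ω] in
/-- Multiplicities are invariant under the fusion group. -/
theorem Hyp.cn_fusion (H : Hyp R Ω p x) {φ : R → ℂ} (hφ : IsClassFunction R φ) {k : (ZMod p)ˣ}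
    (hk : k ∈ fusion x H.pow) (s : ZMod p) : cn x φ ((k : ZMod p) * s) = cn x φ s := by
  unfold cn
  congr 2
  unfold cf
  congr 1
  refine Fintype.sum_equiv (Units.mulRight k) _ _ fun j => ?_
  have hconj : IsConj (x ^ j.val) (pw x (k : ZMod p) ^ j.val) := IsConj.pow _ hk
  show φ (pw x j) * ZMod.stdAddChar (-(j * ((k : ZMod p) * s))) =
    φ (pw x (j * (k : ZMod p))) * ZMod.stdAddChar (-(j * (k : ZMod p) * s))
  rw [mul_assoc j (k : ZMod p) s, mul_comm j (k : ZMod p), pw_mul H.pow, ← classFun_isConj hφ hconj]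
  rfl

theorem Hyp.mlt_one (H : Hyp R Ω p x) : mlt Ω (oneChar : IrrCharacter R) = 1 := by
  have : Nonempty Ω := Fintype.card_pos_iff.1 (by rw [H.card]; have := hp.1.pos; omega)
  have h : classInner (piFun R Ω) (fun _ => (1 : ℂ)) = 1 := pi_inner_one
  simp [mlt, oneChar, h]

/-- The number of suborbits. -/
theorem rank_eq (a : Ω) :
    Nat.card (MulAction.orbitRel.Quotient (MulAction.stabilizer R a) Ω) =
      ∑ φ : IrrCharacter R, mlt Ω φ ^ 2 := by
  have h := pi_inner_self (G := R) a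
  obtain ⟨m, hm, -, hn⟩ := IsChar.exists_mult (pi_isChar (R := R) (Ω := Ω))
  have hmm : m = mlt Ω := funext fun φ => by
    have := (hm φ).symm.trans (cast_mlt φ).symm
    exact_mod_cast this
  subst hmm
  exact_mod_cast h.symm.trans hn

/-- The constituents of the permutation character when the rank is at least three. -/
structure Shape (R : Type u) [Group R] [Fintype R] (Ω : Type v) [MulAction R Ω] (x : R) (p : ℕ)
    [Fact p.Prime] where
  φ0 : IrrCharacter R
  X : Finset (IrrCharacter R)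
  e : ℕ
  ne_one : φ0 ≠ oneChar
  mlt0 : mlt Ω φ0 = 1
  cn0 : ∀ s : ZMod p, cn x (φ0 : R → ℂ) s = 1
  one_notMem : oneChar ∉ X
  zero_notMem : φ0 ∉ X
  support : ∀ φ, mlt Ω φ ≠ 0 → φ = oneChar ∨ φ = φ0 ∨ φ ∈ X
  mltX : ∀ φ ∈ X, mlt Ω φ = 1
  cnX0 : ∀ φ ∈ X, cn x (φ : R → ℂ) (0 : ZMod p) = 0
  sumX : ∀ s : ZMod p, s ≠ 0 → ∑ φ ∈ X, cn x (φ : R → ℂ) s = 1
  degX : ∀ φ ∈ X, ∑ s : ZMod p, cn x (φ : R → ℂ) s = e
  cardX : X.card * e = p - 1
  e_pos : 0 < e

open scoped Classical in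
/-- Rank two, or the shape of the constituents. -/
theorem Hyp.rank_two_or_shape (H : Hyp R Ω p x) :
    (∑ φ : IrrCharacter R, mlt Ω φ ^ 2) = 2 ∨ Nonempty (Shape R Ω x p) := by
  set T : Finset (IrrCharacter R) := Finset.univ.erase oneChar with hT
  have hsum : ∀ s : ZMod p, ∑ φ ∈ T, mlt Ω φ * cn x (φ : R → ℂ) s = if s = 0 then 1 else 2 := by
    intro s
    have h := H.sum_mlt_cn s
    rw [← Finset.add_sum_erase _ _ (Finset.mem_univ (oneChar : IrrCharacter R)), H.mlt_one,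
      cn_one H, one_mul] at h
    rcases eq_or_ne s 0 with rfl | hs
    · rw [if_pos rfl] at h ⊢
      exact (Nat.add_left_cancel (show 1 + _ = 1 + 1 from h))
    · rw [if_neg hs] at h ⊢
      exact (zero_add _).symm.trans h
  have hle : ∀ s : ZMod p, ∀ φ ∈ T, mlt Ω φ * cn x (φ : R → ℂ) s ≤ if s = 0 then 1 else 2 :=
    fun s φ hφ => (hsum s) ▸ Finset.single_le_sum
      (f := fun ψ : IrrCharacter R => mlt Ω ψ * cn x (ψ : R → ℂ) s) (fun _ _ => Nat.zero_le _) hφ
  obtain ⟨φ0, hφ0T, hφ0⟩ : ∃ φ ∈ T, mlt Ω φ * cn x (φ : R → ℂ) (0 : ZMod p) ≠ 0 :=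
    Finset.exists_ne_zero_of_sum_ne_zero (by rw [hsum, if_pos rfl]; exact one_ne_zero)
  have h01 : mlt Ω φ0 * cn x (φ0 : R → ℂ) (0 : ZMod p) = 1 := by
    have := hle 0 φ0 hφ0T
    rw [if_pos rfl] at this
    omega
  have hm0 : mlt Ω φ0 = 1 := Nat.eq_one_of_mul_eq_one_right h01
  have ha0 : cn x (φ0 : R → ℂ) (0 : ZMod p) = 1 := Nat.eq_one_of_mul_eq_one_left h01
  have hne0 : φ0 ≠ oneChar := Finset.ne_of_mem_erase hφ0T
  set X : Finset (IrrCharacter R) := (T.erase φ0).filter (fun φ => mlt Ω φ ≠ 0) with hX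
  have hXT : ∀ φ ∈ X, φ ∈ T ∧ φ ≠ φ0 ∧ φ ≠ oneChar ∧ mlt Ω φ ≠ 0 := fun φ hφ => by
    simp only [hX, hT, Finset.mem_filter, Finset.mem_erase] at hφ ⊢
    tauto
  have hsplit : ∀ s : ZMod p, cn x (φ0 : R → ℂ) s + ∑ φ ∈ X, mlt Ω φ * cn x (φ : R → ℂ) s =
      if s = 0 then 1 else 2 := by
    intro s
    rw [← hsum s, ← Finset.add_sum_erase _ _ hφ0T, hm0, one_mul, hX,
      Finset.sum_filter_of_ne (p := fun φ => mlt Ω φ ≠ 0) fun φ _ hφ h0 => hφ (by rw [h0, zero_mul])]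
  have hX0 : ∀ φ ∈ X, cn x (φ : R → ℂ) (0 : ZMod p) = 0 := by
    intro φ hφ
    have h := hsplit 0
    rw [if_pos rfl, ha0, add_eq_left, Finset.sum_eq_zero_iff] at h
    exact (mul_eq_zero.1 (h φ hφ)).resolve_left (hXT φ hφ).2.2.2
  -- Galois invariance of φ0
  have hconst : ∀ s : ZMod p, s ≠ 0 → cn x (φ0 : R → ℂ) s = cn x (φ0 : R → ℂ) (1 : ZMod p) := by
    intro s hs
    obtain ⟨σ, K, hσ, hk⟩ := H.exists_sigma (Units.mk0 s hs)
    have hfix : sigIrr σ φ0 = φ0 := by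
      by_contra hne
      have hmem : sigIrr σ φ0 ∈ X := by
        simp only [hX, hT, Finset.mem_filter, Finset.mem_erase, Finset.mem_univ, and_true]
        refine ⟨⟨hne, fun h => hne0 (sigIrr_injective σ ?_)⟩, by rw [mlt_sigIrr, hm0]; exact one_ne_zero⟩
        rw [h, sigIrr_one]
      have h0 := hX0 _ hmem
      have h1 := H.cn_sigIrr hσ hk φ0 0
      rw [mul_zero, h0, ha0] at h1
      exact zero_ne_one h1
    have h1 := H.cn_sigIrr hσ hk φ0 1
    rwa [hfix, mul_one, Units.val_mk0] at h1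
  have hb1 : 1 ≤ cn x (φ0 : R → ℂ) (1 : ZMod p) := by
    obtain ⟨s, hs, hs'⟩ := H.exists_cn_ne hne0
    rw [hconst s hs] at hs'
    omega
  have hb2 : cn x (φ0 : R → ℂ) (1 : ZMod p) ≤ 2 := by
    have h := hsplit 1
    rw [if_neg one_ne_zero] at h
    omega
  rcases (show cn x (φ0 : R → ℂ) (1 : ZMod p) = 1 ∨ cn x (φ0 : R → ℂ) (1 : ZMod p) = 2 by omega)
    with hb | hbb
  · -- shape
    right
    have hsumX : ∀ s : ZMod p, s ≠ 0 → ∑ φ ∈ X, mlt Ω φ * cn x (φ : R → ℂ) s = 1 := by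
      intro s hs
      have h := hsplit s
      rw [if_neg hs, hconst s hs, hb] at h
      omega
    have hmX : ∀ φ ∈ X, mlt Ω φ = 1 := by
      intro φ hφ
      obtain ⟨s, hs, hs'⟩ := H.exists_cn_ne (hXT φ hφ).2.2.1
      have h := Finset.single_le_sum (f := fun ψ : IrrCharacter R => mlt Ω ψ * cn x (ψ : R → ℂ) s)
        (fun _ _ => Nat.zero_le _) hφ
      rw [hsumX s hs] at h
      have hpos : 0 < mlt Ω φ * cn x (φ : R → ℂ) s :=
        Nat.mul_pos (Nat.pos_of_ne_zero (hXT φ hφ).2.2.2) (Nat.pos_of_ne_zero hs')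
      exact Nat.eq_one_of_mul_eq_one_right (le_antisymm h hpos)
    have hsumX' : ∀ s : ZMod p, s ≠ 0 → ∑ φ ∈ X, cn x (φ : R → ℂ) s = 1 := fun s hs => by
      rw [← hsumX s hs]
      exact Finset.sum_congr rfl fun φ hφ => by rw [hmX φ hφ, one_mul]
    obtain ⟨χ, hχ, hχ1⟩ : ∃ φ ∈ X, cn x (φ : R → ℂ) (1 : ZMod p) ≠ 0 :=
      Finset.exists_ne_zero_of_sum_ne_zero (by rw [hsumX' 1 one_ne_zero]; exact one_ne_zero)
    have hdeg : ∀ φ ∈ X, ∑ s : ZMod p, cn x (φ : R → ℂ) s = ∑ s : ZMod p, cn x (χ : R → ℂ) s := by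
      intro φ hφ
      obtain ⟨s, hs, hs'⟩ := H.exists_cn_ne (hXT φ hφ).2.2.1
      obtain ⟨σ, K, hσ, hk⟩ := H.exists_sigma (Units.mk0 s hs)
      have hsσ := H.cn_sigIrr hσ hk χ 1
      rw [mul_one, Units.val_mk0] at hsσ
      have hmem : sigIrr σ χ ∈ X := by
        simp only [hX, hT, Finset.mem_filter, Finset.mem_erase, Finset.mem_univ, and_true]
        refine ⟨⟨fun h => ?_, fun h => (hXT χ hχ).2.2.1 (sigIrr_injective σ (by rw [h, sigIrr_one]))⟩,
          by rw [mlt_sigIrr]; exact (hXT χ hχ).2.2.2⟩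
        have h2 := H.cn_sigIrr hσ hk χ 0
        rw [mul_zero, h, ha0, hX0 χ hχ] at h2
        exact one_ne_zero h2
      have heq : φ = sigIrr σ χ := by
        by_contra hne
        have h2 := Finset.sum_le_sum_of_subset (f := fun ψ : IrrCharacter R => cn x (ψ : R → ℂ) s)
          (show ({φ, sigIrr σ χ} : Finset (IrrCharacter R)) ⊆ X from
            Finset.insert_subset hφ (Finset.singleton_subset_iff.2 hmem))
        rw [Finset.sum_pair hne, hsumX' s hs] at h2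
        have : cn x (sigIrr σ χ : R → ℂ) s ≠ 0 := by rw [hsσ]; exact hχ1
        omega
      subst heq
      refine (Fintype.sum_equiv (Equiv.mulLeft₀ _ (Units.ne_zero (Units.mk0 s hs))) _ _ fun t => ?_).symm
      exact (H.cn_sigIrr hσ hk χ t).symm
    have hcard : X.card * (∑ s : ZMod p, cn x (χ : R → ℂ) s) = p - 1 := by
      rw [← smul_eq_mul, ← Finset.sum_const, ← Finset.sum_congr rfl hdeg, Finset.sum_comm,
        ← Finset.add_sum_erase _ _ (Finset.mem_univ (0 : ZMod p)), Finset.sum_eq_zero hX0, zero_add,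
        Finset.sum_congr rfl fun s hs => hsumX' s (Finset.ne_of_mem_erase hs), Finset.sum_const,
        Finset.card_erase_of_mem (Finset.mem_univ _), Finset.card_univ, ZMod.card, smul_eq_mul, mul_one]
    exact ⟨{
      φ0 := φ0, X := X, e := ∑ s : ZMod p, cn x (χ : R → ℂ) s, ne_one := hne0, mlt0 := hm0
      cn0 := fun s => by
        rcases eq_or_ne s 0 with rfl | hs
        · exact ha0
        · rw [hconst s hs, hb]
      one_notMem := fun h => (hXT _ h).2.2.1 rfl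
      zero_notMem := fun h => (hXT _ h).2.1 rfl
      support := fun φ hφ => by
        by_cases h1 : φ = oneChar
        · exact Or.inl h1
        by_cases h2 : φ = φ0
        · exact Or.inr (Or.inl h2)
        · exact Or.inr (Or.inr (by simp [hX, hT, h1, h2, hφ]))
      mltX := hmX, cnX0 := hX0, sumX := hsumX', degX := hdeg, cardX := hcard
      e_pos := Nat.pos_of_ne_zero fun h =>
        hχ1 (Finset.sum_eq_zero_iff.1 h 1 (Finset.mem_univ _)) }⟩
  · -- rank two
    left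
    have hempty : ∀ φ ∈ X, False := by
      intro φ hφ
      obtain ⟨s, hs, hs'⟩ := H.exists_cn_ne (hXT φ hφ).2.2.1
      have h := hsplit s
      rw [if_neg hs, hconst s hs, hbb, add_eq_left, Finset.sum_eq_zero_iff] at h
      exact hs' ((mul_eq_zero.1 (h φ hφ)).resolve_left (hXT φ hφ).2.2.2)
    have hz : ∀ φ : IrrCharacter R, φ ≠ oneChar ∧ φ ≠ φ0 → mlt Ω φ = 0 := fun φ hφ => by
      by_contra h
      exact hempty φ (by simp [hX, hT, hφ.1, hφ.2, h])
    rw [Fintype.sum_eq_add (oneChar : IrrCharacter R) φ0 hne0.symm fun φ hφ => by simp [hz φ hφ],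
      H.mlt_one, hm0]
    norm_num

end Cfsg.Agent.DegreeTwoP
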