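import Cfsg.Agent.DegreeTwoP.Fusion
import Mathlib.Algebra.Order.Chebyshev

/-!
# Wielandt degree `2p`: at most two conjugate constituents
-/

set_option maxHeartbeats 800000

namespace Cfsg.Agent.DegreeTwoP

open scoped ComplexConjugate
open Cfsg.Agent.Char Module

universe u v

variable {R : Type u} [Group R] [Fintype R] {Ω : Type v} [Fintype Ω] [MulAction R Ω]
  [MulAction.IsPretransitive R Ω] {p : ℕ} [hp : Fact p.Prime] {x : R}

/-- Coefficients of the square of the absolute value at zero. -/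
theorem cf_absSq_zero (hx : x ^ p = 1) {χ : R → ℂ} (h : IsCharacter R χ) :
    cf x (χ * fun g => conj (χ g)) (0 : ZMod p) = ∑ s : ZMod p, (cn x χ s : ℂ) ^ 2 := by
  have hconj : ∀ j : ZMod p, conj (χ (pw x j)) =
      ∑ u : ZMod p, (cn x χ u : ℂ) * ZMod.stdAddChar (-(j * u)) := fun j => by
    rw [cf_inv (x := x) χ j, map_sum]
    refine Finset.sum_congr rfl fun u _ => ?_
    rw [map_mul, conj_stdAddChar, ← cast_cn hx h, Complex.conj_natCast]
  have e : cf x (χ * fun g => conj (χ g)) (0 : ZMod p) =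
      ∑ u : ZMod p, (cn x χ u : ℂ) * cf x χ u := by
    simp only [cf, mul_zero, neg_zero, AddChar.map_zero_eq_one, mul_one, Pi.mul_apply, hconj,
      Finset.mul_sum]
    rw [Finset.sum_comm]
    exact Finset.sum_congr rfl fun u _ => Finset.sum_congr rfl fun j _ => by ring
  rw [e]
  exact Finset.sum_congr rfl fun u _ => by rw [← cast_cn hx h, sq]

/-- A constituent of the restriction of `φ` to the normalizer of `⟨x⟩` trivial on `x`, and the
resulting bound on the multiplicity of `φ` in `χ * conj χ`. -/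
theorem Shape.mult_le_one (H : Hyp R Ω p x) (S : Shape R Ω x p) (h2 : 2 ≤ S.X.card)
    {χ : IrrCharacter R} (hχ : χ ∈ S.X) {φ : IrrCharacter R}
    (hφ : cn x (φ : R → ℂ) (0 : ZMod p) ≠ 0) {n : ℕ}
    (hn : classInner ((χ : R → ℂ) * fun g => conj ((χ : R → ℂ) g)) (φ : R → ℂ) = n) : n ≤ 1 := by
  classical
  set N : Subgroup R := Subgroup.normalizer ((Subgroup.zpowers x : Subgroup R) : Set R) with hN
  have hxN : x ∈ N := Subgroup.le_normalizer (Subgroup.mem_zpowers x)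
  set y : N := ⟨x, hxN⟩ with hy
  have hyp : y ^ p = 1 := Subtype.ext H.pow
  have hres : ∀ (f : R → ℂ) (s : ZMod p), cf y (fun g : N => f g) s = cf x f s := fun f s => rfl
  -- elements of the normalizer realise the fusion
  have hfus : ∀ k : fusion x H.pow, IsConj y (pw y ((k : (ZMod p)ˣ) : ZMod p)) := fun k => by
    obtain ⟨g, hg⟩ := isConj_iff.1 (show IsConj x (pw x ((k : (ZMod p)ˣ) : ZMod p)) from k.2)
    have hgN : g ∈ N := by
      refine Subgroup.mem_normalizer_fintype fun m hm => ?_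
      obtain ⟨i, rfl⟩ := Subgroup.mem_zpowers_iff.1 hm
      rw [← conj_zpow, hg]
      exact zpow_mem (pow_mem (Subgroup.mem_zpowers x) _) _
    exact isConj_iff.2 ⟨⟨g, hgN⟩, Subtype.ext hg⟩
  -- the restriction of χ is irreducible
  have hχN : IsCharacter N (fun g : N => (χ : R → ℂ) g) := isCharacter_res N (IsIrr.isCharacter χ.2)
  have hχ1 : (χ : R → ℂ) 1 = S.e := S.deg_X H.pow hχ
  have hne : (fun g : N => (χ : R → ℂ) g) ≠ 0 := fun h => by
    exact IsIrr.one_ne_zero χ.2 (congrFun h 1)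
  obtain ⟨η, hη⟩ := IsChar.exists_constituent hχN hne
  have hsub := IsChar.sub_constituent hχN η.2 hη
  have hadd : ∀ s : ZMod p, cn x (χ : R → ℂ) s =
      cn y (η : N → ℂ) s + cn y ((fun g : N => (χ : R → ℂ) g) - (η : N → ℂ)) s := by
    intro s
    have h1 := cf_add (x := y) (η : N → ℂ) ((fun g : N => (χ : R → ℂ) g) - (η : N → ℂ)) s
    rw [add_sub_cancel, hres, ← cast_cn H.pow (IsIrr.isCharacter χ.2), ← cast_cn hyp hsub,
      ← cast_cn hyp (IsIrr.isCharacter η.2)] at h1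
    exact_mod_cast h1
  have hηinv : ∀ (k : fusion x H.pow) (s : ZMod p),
      cn y (η : N → ℂ) (((k : (ZMod p)ˣ) : ZMod p) * s) = cn y (η : N → ℂ) s := fun k s => by
    unfold cn
    congr 2
    unfold cf
    congr 1
    refine Fintype.sum_equiv (Units.mulRight (k : (ZMod p)ˣ)) _ _ fun j => ?_
    show (η : N → ℂ) (pw y j) * ZMod.stdAddChar (-(j * (((k : (ZMod p)ˣ) : ZMod p) * s))) =
      (η : N → ℂ) (pw y (j * ((k : (ZMod p)ˣ) : ZMod p))) *
        ZMod.stdAddChar (-(j * ((k : (ZMod p)ˣ) : ZMod p) * s))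
    rw [mul_assoc j _ s, mul_comm j ((k : (ZMod p)ˣ) : ZMod p), pw_mul hyp,
      ← classFun_isConj (isClassFunction_of_isIrr η.2) ((hfus k).pow j.val)]
    rfl
  have hdη : ((∑ s : ZMod p, cn y (η : N → ℂ) s : ℕ) : ℂ) = (η : N → ℂ) 1 := by
    rw [← sum_cf (x := y) (p := p) (η : N → ℂ), Nat.cast_sum]
    exact Finset.sum_congr rfl fun s _ => cast_cn hyp (IsIrr.isCharacter η.2) s
  obtain ⟨s0, hs0⟩ : ∃ s, cn y (η : N → ℂ) (s : ZMod p) ≠ 0 := by
    by_contra! hall
    rw [Finset.sum_eq_zero fun s _ => hall s, Nat.cast_zero] at hdη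
    exact IsIrr.one_ne_zero η.2 hdη.symm
  have hrest : ∀ s, cn y ((fun g : N => (χ : R → ℂ) g) - (η : N → ℂ)) (s : ZMod p) = 0 := by
    intro s
    by_contra hr
    have hs : cn x (χ : R → ℂ) s ≠ 0 := by rw [hadd]; omega
    have hs' : cn x (χ : R → ℂ) s0 ≠ 0 := by rw [hadd]; omega
    obtain ⟨k, hk⟩ := S.exists_fusion H h2 hχ hs hs'
    have h1 : cn y (η : N → ℂ) s ≠ 0 := by rw [← hk, hηinv]; exact hs0
    have h3 := S.cn_le_one hχ s
    rw [hadd] at h3
    omega
  have heq : (fun g : N => (χ : R → ℂ) g) = (η : N → ℂ) := by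
    rw [← sub_eq_zero]
    refine (IsChar.eq_zero_iff hsub).2 ?_
    rw [← sum_cf (x := y) (p := p) ((fun g : N => (χ : R → ℂ) g) - (η : N → ℂ))]
    exact Finset.sum_eq_zero fun s _ => by rw [← cast_cn hyp hsub, hrest, Nat.cast_zero]
  -- a linear constituent of φ
  have hφN : IsCharacter N (fun g : N => (φ : R → ℂ) g) := isCharacter_res N (IsIrr.isCharacter φ.2)
  obtain ⟨m, hm, hexp, -⟩ := IsChar.exists_mult hφN
  obtain ⟨θ, hθm, hθ0⟩ : ∃ θ : IrrCharacter N, m θ ≠ 0 ∧ cn y (θ : N → ℂ) (0 : ZMod p) ≠ 0 := by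
    by_contra! hall
    apply hφ
    have h : cf y (fun g : N => (φ : R → ℂ) g) (0 : ZMod p) = 0 := by
      rw [hexp, cf_sum]
      refine Finset.sum_eq_zero fun θ _ => ?_
      rw [cf_smul, ← cast_cn hyp (IsIrr.isCharacter θ.2)]
      rcases eq_or_ne (m θ) 0 with h0 | h0
      · rw [h0, Nat.cast_zero, zero_mul]
      · rw [hall θ h0, Nat.cast_zero, mul_zero]
    rw [hres, ← cast_cn H.pow (IsIrr.isCharacter φ.2)] at h
    exact_mod_cast h
  have hθy : (θ : N → ℂ) y = (θ : N → ℂ) 1 := by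
    obtain ⟨d, ρ, hρ, hρθ⟩ := θ.2
    obtain ⟨t, b, hb, hc⟩ := cf_rep (p := p) hyp ρ
    rw [hρθ] at hc
    rw [← hρθ, ρ.char_one, character_eq_finrank_iff]
    let W : Submodule ℂ (Fin d → ℂ) := LinearMap.eqLocus (ρ y) LinearMap.id
    have hW : ∀ g : N, ∀ v ∈ W, ρ g v ∈ W := by
      intro g v (hv : ρ y v = v)
      show ρ y (ρ g v) = ρ g v
      have hmem : ((g⁻¹ * y * g : N) : R) ∈ Subgroup.zpowers x :=
        ((Subgroup.mem_normalizer_iff''.1 g.2) x).1 (Subgroup.mem_zpowers x)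
      obtain ⟨i, hi⟩ := Subgroup.mem_zpowers_iff.1 hmem
      obtain ⟨i', hi'⟩ : ∃ i' : ℕ, x ^ i' = x ^ i :=
        ⟨(i % (p : ℤ)).toNat, by
          rw [← zpow_natCast, Int.toNat_of_nonneg (Int.emod_nonneg _ (by exact_mod_cast hp.1.ne_zero)),
            ← H.order, zpow_mod_orderOf]⟩
      have hg : y * g = g * y ^ i' := by
        apply Subtype.ext
        show x * (g : R) = g * x ^ i'
        rw [hi', hi]
        show x * (g : R) = g * ((g : R)⁻¹ * x * g)
        group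
      have hfix : ∀ j : ℕ, ρ (y ^ j) v = v := fun j => by
        induction j with
        | zero => simp
        | succ j ih => rw [pow_succ, map_mul, Module.End.mul_apply, hv, ih]
      rw [← Module.End.mul_apply, ← map_mul, hg, map_mul, Module.End.mul_apply, hfix]
    have hcard := hc (0 : ZMod p)
    rw [← cast_cn hyp (IsIrr.isCharacter θ.2), Nat.cast_inj] at hcard
    obtain ⟨i, hi⟩ := Finset.card_pos.1 (Nat.pos_of_ne_zero (hcard ▸ hθ0))
    rw [Finset.mem_filter] at hi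
    rcases (isIrreducible_iff.1 hρ).2 W hW with h | h
    · exfalso
      have hbW : b i ∈ W := by
        show ρ y (b i) = b i
        rw [hb, hi.2, AddChar.map_zero_eq_one, one_smul]
      rw [h, Submodule.mem_bot] at hbW
      exact b.ne_zero i hbW
    · exact LinearMap.ext fun v => (h ▸ Submodule.mem_top : v ∈ W)
  have hθ1 : (θ : N → ℂ) 1 = 1 := by
    have hθc := IsIrr.isCharacter θ.2
    set Q := kerSubgroup hθc with hQ
    obtain ⟨θ', hθ', heθ⟩ := IsIrr.exists_quotient Q θ.2 fun g hg => hg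
    rw [heθ, QuotientGroup.mk_one]
    refine IsIrr.degree_one_of_comm hθ' ?_
    intro a b
    obtain ⟨a, rfl⟩ := QuotientGroup.mk_surjective a
    obtain ⟨b, rfl⟩ := QuotientGroup.mk_surjective b
    rw [← QuotientGroup.mk_mul, ← QuotientGroup.mk_mul, QuotientGroup.eq]
    have hconj : ∀ g : N, ∃ i : ℤ, (g : R) * x * (g : R)⁻¹ = x ^ i := fun g => by
      obtain ⟨i, hi⟩ := Subgroup.mem_zpowers_iff.1
        ((Subgroup.mem_normalizer_iff.1 g.2 x).1 (Subgroup.mem_zpowers x))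
      exact ⟨i, hi.symm⟩
    obtain ⟨i, hi⟩ := hconj a
    obtain ⟨j, hj⟩ := hconj b
    have hab : ((a : R) * b) * x * ((a : R) * b)⁻¹ = x ^ (i * j) := by
      rw [show ((a : R) * b) * x * ((a : R) * b)⁻¹ = a * ((b : R) * x * (b : R)⁻¹) * (a : R)⁻¹ by group,
        hj, ← conj_zpow, hi, zpow_mul]
    have hba : ((b : R) * a) * x * ((b : R) * a)⁻¹ = x ^ (i * j) := by
      rw [show ((b : R) * a) * x * ((b : R) * a)⁻¹ = b * ((a : R) * x * (a : R)⁻¹) * (b : R)⁻¹ by group,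
        hi, ← conj_zpow, hj, mul_comm i j, zpow_mul]
    have hcomm : Commute (((a : R) * b)⁻¹ * ((b : R) * a)) x := by
      have hbase := hba.trans hab.symm
      show ((a : R) * b)⁻¹ * ((b : R) * a) * x = x * (((a : R) * b)⁻¹ * ((b : R) * a))
      calc ((a : R) * b)⁻¹ * ((b : R) * a) * x
          = ((a : R) * b)⁻¹ * (((b : R) * a) * x * ((b : R) * a)⁻¹) * ((b : R) * a) := by group
        _ = ((a : R) * b)⁻¹ * (((a : R) * b) * x * ((a : R) * b)⁻¹) * ((b : R) * a) := by rw [hbase]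
        _ = _ := by group
    obtain ⟨l, hl⟩ := Subgroup.mem_zpowers_iff.1 (H.cent _ hcomm)
    rw [show (a * b)⁻¹ * (b * a) = y ^ l from Subtype.ext (by simpa using hl.symm)]
    exact zpow_mem (show y ∈ Q from hθy) _
  obtain ⟨f, hf⟩ := IsChar.exists_hom (IsIrr.isCharacter θ.2) hθ1
  -- the bound
  set ψ : R → ℂ := (χ : R → ℂ) * fun g => conj ((χ : R → ℂ) g) with hψ
  have hψc : IsCharacter R ψ :=
    isCharacter_mul (IsIrr.isCharacter χ.2) (isCharacter_conj (IsIrr.isCharacter χ.2))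
  obtain ⟨M, hM, hMexp, -⟩ := IsChar.exists_mult hψc
  have hMφ : M φ = n := by exact_mod_cast (hM φ).symm.trans hn
  have hle : classInner (fun g : N => ψ g) (θ : N → ℂ) =
      ∑ ξ : IrrCharacter R, (M ξ : ℂ) * classInner (fun g : N => (ξ : R → ℂ) g) (θ : N → ℂ) := by
    have h1 : (fun g : N => ψ g) =
        ∑ ξ : IrrCharacter R, (M ξ : ℂ) • (fun g : N => (ξ : R → ℂ) g) := funext fun g => by
      conv_lhs => rw [hMexp]
      simp
    rw [h1, classInner_sum_left]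
    exact Finset.sum_congr rfl fun ξ _ => classInner_smul_left _ _ _
  choose r hr using fun ξ : IrrCharacter R => classInner_isCharacter_eq_natCast
    (isCharacter_res N (IsIrr.isCharacter ξ.2)) (IsIrr.isCharacter θ.2)
  simp only [hr] at hle
  have hprod : IsCharacter N (fun g : N => (f g : ℂ) * (η : N → ℂ) g) :=
    isCharacter_mul (isCharacter_hom f) (IsIrr.isCharacter η.2)
  have hirr : IsIrrCharacter N (fun g : N => (f g : ℂ) * (η : N → ℂ) g) := by
    rw [isIrr_iff_norm_one hprod, ← classInner_irr_self η.2]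
    unfold classInner
    congr 1
    refine Finset.sum_congr rfl fun g _ => ?_
    have hunit : (f g : ℂ) * conj (f g : ℂ) = 1 := by
      rw [← IsChar.inv_eq_conj (isCharacter_hom f) g, map_inv, ← Units.val_mul, mul_inv_cancel,
        Units.val_one]
    rw [map_mul]
    linear_combination ((η : N → ℂ) g * conj ((η : N → ℂ) g)) * hunit
  have hval : classInner (fun g : N => ψ g) (θ : N → ℂ) =
      classInner (η : N → ℂ) (fun g : N => (f g : ℂ) * (η : N → ℂ) g) := by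
    unfold classInner
    congr 1
    refine Finset.sum_congr rfl fun g _ => ?_
    rw [hψ, hf]
    show (χ : R → ℂ) g * conj ((χ : R → ℂ) g) * conj (f g : ℂ) = _
    rw [map_mul, congrFun heq g]
    ring
  rw [hle, classInner_irr η.2 hirr] at hval
  have hsum : ∑ ξ : IrrCharacter R, M ξ * r ξ ≤ 1 := by
    split_ifs at hval <;> [skip; skip]
    · exact le_of_eq (by exact_mod_cast hval)
    · exact (le_of_eq (show ∑ ξ : IrrCharacter R, M ξ * r ξ = 0 by exact_mod_cast hval)).trans zero_le_one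
  have hrφ : r φ = m θ := by exact_mod_cast (hr φ).symm.trans (hm θ)
  have h3 := Finset.single_le_sum (f := fun ξ : IrrCharacter R => M ξ * r ξ)
    (fun _ _ => Nat.zero_le _) (Finset.mem_univ φ)
  rw [hMφ, hrφ] at h3
  exact (Nat.le_mul_of_pos_right n (Nat.pos_of_ne_zero hθm)).trans (h3.trans hsum)

/-- There are at most two conjugate constituents. -/
theorem Shape.card_le_two (H : Hyp R Ω p x) (S : Shape R Ω x p) : S.X.card ≤ 2 := by
  classical
  by_contra hlt
  have h2 : 2 ≤ S.X.card := by omega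
  obtain ⟨χ, hχ, -⟩ := S.exists_mem (one_ne_zero (α := ZMod p))
  set ψ : R → ℂ := (χ : R → ℂ) * fun g => conj ((χ : R → ℂ) g) with hψ
  have hψc : IsCharacter R ψ :=
    isCharacter_mul (IsIrr.isCharacter χ.2) (isCharacter_conj (IsIrr.isCharacter χ.2))
  obtain ⟨n, hn, hexp, -⟩ := IsChar.exists_mult hψc
  have hn1 : n oneChar = 1 := by
    have h : classInner ψ (fun _ : R => (1 : ℂ)) = classInner (χ : R → ℂ) (χ : R → ℂ) := by
      simp [classInner, hψ]
    rw [classInner_irr_self χ.2] at h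
    exact_mod_cast (hn oneChar).symm.trans h
  have hsq : ∀ s : ZMod p, cn x (χ : R → ℂ) s ^ 2 = cn x (χ : R → ℂ) s := fun s => by
    rcases (show cn x (χ : R → ℂ) s = 0 ∨ cn x (χ : R → ℂ) s = 1 by
      have := S.cn_le_one hχ s; omega) with h | h <;> rw [h] <;> norm_num
  have hA : ∑ φ : IrrCharacter R, n φ * cn x (φ : R → ℂ) (0 : ZMod p) = S.e := by
    have h := cf_absSq_zero (p := p) H.pow (IsIrr.isCharacter χ.2)
    rw [show ((χ : R → ℂ) * fun g => conj ((χ : R → ℂ) g)) = ψ from rfl, hexp, cf_sum] at h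
    simp only [cf_smul, ← cast_cn H.pow (IsIrr.isCharacter (Subtype.prop _))] at h
    have h' : ∑ φ : IrrCharacter R, n φ * cn x (φ : R → ℂ) (0 : ZMod p) =
        ∑ s : ZMod p, cn x (χ : R → ℂ) s ^ 2 := by exact_mod_cast h
    rw [h', Finset.sum_congr rfl fun s _ => hsq s, S.degX χ hχ]
  have hD : ∑ φ : IrrCharacter R, n φ * ∑ s : ZMod p, cn x (φ : R → ℂ) s = S.e * S.e := by
    have h := congrFun hexp 1
    have hψ1 : ψ 1 = (S.e : ℂ) * S.e := by
      rw [hψ, Pi.mul_apply, S.deg_X H.pow hχ, Complex.conj_natCast]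
    rw [hψ1] at h
    simp only [Finset.sum_apply, Pi.smul_apply, smul_eq_mul,
      ← H.sum_cn (IsIrr.isCharacter (Subtype.prop _))] at h
    exact_mod_cast h.symm
  set O : Finset (IrrCharacter R) := (insert oneChar S.X)ᶜ with hO
  have hOmem : ∀ φ ∈ O, φ ≠ oneChar ∧ φ ∉ S.X := fun φ hφ => by
    simpa [hO] using hφ
  have hb : ∀ φ ∈ O, 1 ≤ cn x (φ : R → ℂ) (1 : ZMod p) := fun φ hφ => by
    obtain ⟨s, hs, hne⟩ := H.exists_cn_ne (hOmem φ hφ).1
    rw [S.const H h2 (hOmem φ hφ).2 hs one_ne_zero] at hne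
    omega
  have hAO : ∑ φ ∈ O, n φ * cn x (φ : R → ℂ) (0 : ZMod p) + 1 = S.e := by
    have hz : ∑ φ ∈ S.X, n φ * cn x (φ : R → ℂ) (0 : ZMod p) = 0 :=
      Finset.sum_eq_zero fun φ hφ => by rw [S.cnX0 φ hφ, mul_zero]
    rw [hO, ← hA, ← Finset.sum_add_sum_compl (insert oneChar S.X), Finset.sum_insert S.one_notMem,
      hn1, cn_one H, if_pos rfl, hz]
    ring
  have hBO : S.X.card * ∑ φ ∈ O, n φ * cn x (φ : R → ℂ) (1 : ZMod p) + 1 ≤ S.e := by
    have hdeg : ∀ φ ∈ O, ∑ s : ZMod p, cn x (φ : R → ℂ) s =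
        cn x (φ : R → ℂ) (0 : ZMod p) + (p - 1) * cn x (φ : R → ℂ) (1 : ZMod p) := fun φ hφ => by
      rw [← Finset.add_sum_erase _ _ (Finset.mem_univ (0 : ZMod p)),
        Finset.sum_congr rfl fun s hs => S.const H h2 (hOmem φ hφ).2 (Finset.ne_of_mem_erase hs) one_ne_zero,
        Finset.sum_const, smul_eq_mul, Finset.card_erase_of_mem (Finset.mem_univ _), Finset.card_univ,
        ZMod.card]
    have h1 : ∑ φ ∈ O, n φ * ∑ s : ZMod p, cn x (φ : R → ℂ) s + 1 ≤ S.e * S.e := by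
      rw [hO, ← hD, ← Finset.sum_add_sum_compl (insert oneChar S.X), Finset.sum_insert S.one_notMem,
        hn1, one_mul, Finset.sum_congr rfl fun s _ => cn_one H s, Finset.sum_ite_eq', if_pos (Finset.mem_univ _)]
      omega
    rw [Finset.sum_congr rfl fun φ hφ => by rw [hdeg φ hφ, mul_add, mul_left_comm],
      Finset.sum_add_distrib, ← Finset.mul_sum, ← S.cardX] at h1
    have hpos := S.e_pos
    set A := ∑ φ ∈ O, n φ * cn x (φ : R → ℂ) (0 : ZMod p)
    set B := ∑ φ ∈ O, n φ * cn x (φ : R → ℂ) (1 : ZMod p)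
    nlinarith
  set O' : Finset (IrrCharacter R) := O.filter fun φ =>
    n φ ≠ 0 ∧ cn x (φ : R → ℂ) (1 : ZMod p) < cn x (φ : R → ℂ) (0 : ZMod p) with hO'
  have hsum : (∑ φ ∈ O, (n φ * cn x (φ : R → ℂ) (0 : ZMod p) : ℤ)) -
      ∑ φ ∈ O, (n φ * cn x (φ : R → ℂ) (1 : ZMod p) : ℤ) ≤
      ∑ φ ∈ O', ((cn x (φ : R → ℂ) (0 : ZMod p) : ℤ) - cn x (φ : R → ℂ) (1 : ZMod p)) := by
    rw [hO', Finset.sum_filter, ← Finset.sum_sub_distrib]
    refine Finset.sum_le_sum fun φ hφ => ?_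
    split_ifs with h
    · have h1 := S.mult_le_one H h2 hχ (φ := φ) (by omega) (hn φ)
      rw [show n φ = 1 by omega]
      simp
    · rw [not_and_or, not_not, not_lt] at h
      rcases h with h | h
      · simp [h]
      · have : (cn x (φ : R → ℂ) (0 : ZMod p) : ℤ) ≤ cn x (φ : R → ℂ) (1 : ZMod p) := by exact_mod_cast h
        nlinarith [Int.natCast_nonneg (n φ)]
  have hcard : O'.card ≤ ∑ φ ∈ O, n φ * cn x (φ : R → ℂ) (1 : ZMod p) := by
    calc O'.card = ∑ _φ ∈ O', 1 := by simp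
      _ ≤ ∑ φ ∈ O', n φ * cn x (φ : R → ℂ) (1 : ZMod p) := Finset.sum_le_sum fun φ hφ => by
          rw [hO', Finset.mem_filter] at hφ
          exact Nat.mul_pos (Nat.pos_of_ne_zero hφ.2.1) (hb φ hφ.1)
      _ ≤ _ := Finset.sum_le_sum_of_subset (Finset.filter_subset _ _)
  have hsq2 : ∑ φ ∈ O', ((cn x (φ : R → ℂ) (0 : ZMod p) : ℤ) - cn x (φ : R → ℂ) (1 : ZMod p)) ^ 2 ≤
      (S.e : ℤ) - 1 := by
    rw [← S.sum_sq_excess H h2]
    exact Finset.sum_le_sum_of_subset_of_nonneg (Finset.filter_subset _ _) fun _ _ _ => sq_nonneg _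
  have hcs := sq_sum_le_card_mul_sum_sq (s := O')
    (f := fun φ : IrrCharacter R => (cn x (φ : R → ℂ) (0 : ZMod p) : ℤ) - cn x (φ : R → ℂ) (1 : ZMod p))
  set A := ∑ φ ∈ O, n φ * cn x (φ : R → ℂ) (0 : ZMod p) with hAdef
  set B := ∑ φ ∈ O, n φ * cn x (φ : R → ℂ) (1 : ZMod p) with hBdef
  have hA' : (∑ φ ∈ O, (n φ * cn x (φ : R → ℂ) (0 : ZMod p) : ℤ)) = A := by rw [hAdef]; push_cast; rfl
  have hB' : (∑ φ ∈ O, (n φ * cn x (φ : R → ℂ) (1 : ZMod p) : ℤ)) = B := by rw [hBdef]; push_cast; rfl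
  rw [hA', hB'] at hsum
  have he2 := S.one_lt_e H
  have hAe : (A : ℤ) + 1 = S.e := by exact_mod_cast hAO
  have hBe : 3 * (B : ℤ) + 1 ≤ S.e := by
    have h3 : 3 * B ≤ S.X.card * B := Nat.mul_le_mul_right _ (by omega)
    have h4 : 3 * B + 1 ≤ S.e := by omega
    exact_mod_cast h4
  have he2' : (2 : ℤ) ≤ S.e := by exact_mod_cast he2
  have hB0 : (0 : ℤ) ≤ B := Int.natCast_nonneg _
  have hcard' : (O'.card : ℤ) ≤ B := by exact_mod_cast hcard
  have hup : ((S.e : ℤ) - 1 - B) ^ 2 ≤ B * ((S.e : ℤ) - 1) :=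
    calc ((S.e : ℤ) - 1 - B) ^ 2
        ≤ (∑ φ ∈ O', ((cn x (φ : R → ℂ) (0 : ZMod p) : ℤ) - cn x (φ : R → ℂ) (1 : ZMod p))) ^ 2 := by
          apply pow_le_pow_left₀ (by linarith)
          linarith
      _ ≤ _ := hcs
      _ ≤ B * ((S.e : ℤ) - 1) := mul_le_mul hcard' hsq2
          (Finset.sum_nonneg fun _ _ => sq_nonneg _) hB0
  set E : ℤ := (S.e : ℤ) - 1
  have h3 : 3 * (B : ℤ) ≤ E := by linarith
  nlinarith [mul_le_mul h3 h3 (by linarith : (0:ℤ) ≤ 3 * B) (by linarith : (0:ℤ) ≤ E)]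

end Cfsg.Agent.DegreeTwoP
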