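import Mathlib.Analysis.SpecialFunctions.Complex.CircleAddChar
import Mathlib.NumberTheory.LegendreSymbol.AddCharacter
import Mathlib.Data.ZMod.Units
import Cfsg.Agent.Char.Galois
import Cfsg.Agent.Char.Gen

/-!
# Multiplicities of the eigenvalues of an element of prime order
-/

namespace Cfsg.Agent.DegreeTwoP

open scoped ComplexConjugate
open Cfsg.Agent.Char Module

universe u v

variable {R : Type u} [Group R] {p : ℕ} [hp : Fact p.Prime]

/-- The power of `x` with exponent a residue mod `p`. -/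
def pw (x : R) (j : ZMod p) : R := x ^ j.val

/-- Fourier coefficient of a function on the cyclic group of `x`. -/
noncomputable def cf (x : R) (χ : R → ℂ) (s : ZMod p) : ℂ :=
  (p : ℂ)⁻¹ * ∑ j : ZMod p, χ (pw x j) * ZMod.stdAddChar (-(j * s))

variable {x : R} (hx : x ^ p = 1)

omit hp in
theorem pow_mod (n : ℕ) (h : x ^ p = 1) : x ^ (n % p) = x ^ n := by
  conv_rhs => rw [← Nat.mod_add_div n p, pow_add, pow_mul, h, one_pow, mul_one]

theorem pw_zero : pw x (0 : ZMod p) = 1 := by simp [pw]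

include hx in
theorem pw_natCast (n : ℕ) : pw x (n : ZMod p) = x ^ n := by
  rw [pw, ZMod.val_natCast, pow_mod n hx]

theorem pw_one : pw x (1 : ZMod p) = x := by
  simp [pw, ZMod.val_one]

include hx in
theorem pw_add (a b : ZMod p) : pw x (a + b) = pw x a * pw x b := by
  rw [pw, pw, pw, ZMod.val_add, pow_mod _ hx, pow_add]

include hx in
theorem pw_mul (a b : ZMod p) : pw x (a * b) = pw x a ^ b.val := by
  rw [pw, pw, ZMod.val_mul, pow_mod _ hx, pow_mul]

include hx in
theorem pw_neg (a : ZMod p) : pw x (-a) = (pw x a)⁻¹ := by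
  apply eq_inv_of_mul_eq_one_left
  rw [← pw_add hx, neg_add_cancel, pw_zero]

omit hp in
theorem pw_conj (g : R) (a : ZMod p) : pw (g * x * g⁻¹) a = g * pw x a * g⁻¹ := by
  rw [pw, pw, conj_pow]

theorem sum_stdAddChar (b : ZMod p) :
    ∑ j : ZMod p, ZMod.stdAddChar (j * b) = if b = 0 then (p : ℂ) else 0 := by
  rw [AddChar.sum_mulShift b (ZMod.isPrimitive_stdAddChar p), ZMod.card, Nat.cast_ite, Nat.cast_zero]

theorem p_ne : (p : ℂ) ≠ 0 := Nat.cast_ne_zero.2 hp.1.ne_zero

theorem conj_stdAddChar (j : ZMod p) : conj (ZMod.stdAddChar j) = ZMod.stdAddChar (-j) := by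
  rw [AddChar.map_neg_eq_inv, ← Complex.inv_eq_conj]
  rw [ZMod.stdAddChar_apply]
  exact Circle.norm_coe _

theorem cf_add (χ η : R → ℂ) (s : ZMod p) : cf x (χ + η) s = cf x χ s + cf x η s := by
  simp [cf, add_mul, Finset.sum_add_distrib, mul_add]

theorem cf_smul (a : ℂ) (χ : R → ℂ) (s : ZMod p) : cf x (a • χ) s = a * cf x χ s := by
  simp only [cf, Pi.smul_apply, smul_eq_mul, mul_assoc, ← Finset.mul_sum]
  ring

theorem cf_sum {ι : Type*} (t : Finset ι) (f : ι → R → ℂ) (s : ZMod p) :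
    cf x (∑ i ∈ t, f i) s = ∑ i ∈ t, cf x (f i) s := by
  simp only [cf, Finset.sum_apply, Finset.sum_mul, Finset.mul_sum]
  exact Finset.sum_comm

/-- Fourier inversion. -/
theorem cf_inv (χ : R → ℂ) (j : ZMod p) :
    χ (pw x j) = ∑ s : ZMod p, cf x χ s * ZMod.stdAddChar (j * s) := by
  simp only [cf, mul_assoc, Finset.sum_mul, ← Finset.mul_sum]
  rw [Finset.sum_comm]
  simp only [mul_assoc, ← Finset.mul_sum, ← AddChar.map_add_eq_mul]
  have : ∀ i : ZMod p, ∑ s, ZMod.stdAddChar (-(i * s) + j * s) = if j - i = 0 then (p : ℂ) else 0 := by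
    intro i
    rw [← sum_stdAddChar]
    exact Finset.sum_congr rfl fun s _ => congrArg _ (by ring)
  simp only [this, sub_eq_zero, mul_ite, mul_zero, Finset.sum_ite_eq, Finset.mem_univ, if_true]
  field_simp [p_ne (p := p)]

theorem sum_cf (χ : R → ℂ) : ∑ s : ZMod p, cf x χ s = χ 1 := by
  have h := cf_inv (x := x) χ (0 : ZMod p)
  simp only [pw_zero, zero_mul, AddChar.map_zero_eq_one, mul_one] at h
  exact h.symm

include hx in
/-- The coefficients of a character count eigenvalues. -/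
theorem cf_rep {n : Type*} [AddCommGroup n] [Module ℂ n] [FiniteDimensional ℂ n]
    (ρ : Representation ℂ R n) :
    ∃ (t : Fin (finrank ℂ n) → ZMod p) (b : Basis (Fin (finrank ℂ n)) ℂ n),
      (∀ i, ρ x (b i) = ZMod.stdAddChar (t i) • b i) ∧
      ∀ s, cf x ρ.character s = ((Finset.univ.filter fun i => t i = s).card : ℂ) := by
  classical
  obtain ⟨μ, b, hb, hμ⟩ := exists_eigenbasis_of_pow_eq_one (ρ x) hp.1.ne_zero
    (by rw [← map_pow, hx, map_one])
  have hprim : IsPrimitiveRoot (ZMod.stdAddChar (1 : ZMod p)) p := by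
    refine IsPrimitiveRoot.iff_def _ _ |>.2 ⟨?_, fun l hl => ?_⟩
    · rw [← AddChar.map_nsmul_eq_pow, nsmul_one, ZMod.natCast_self, AddChar.map_zero_eq_one]
    · rw [← AddChar.map_nsmul_eq_pow, nsmul_one, ← AddChar.map_zero_eq_one (ZMod.stdAddChar (N := p))]
        at hl
      exact (ZMod.natCast_eq_zero_iff _ _).1 (ZMod.injective_stdAddChar hl)
  have ht : ∀ i, ∃ t : ZMod p, μ i = ZMod.stdAddChar t := fun i => by
    obtain ⟨k, -, hk⟩ := hprim.eq_pow_of_pow_eq_one (hμ i)
    exact ⟨k, by rw [← hk, ← AddChar.map_nsmul_eq_pow, nsmul_one]⟩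
  choose t ht using ht
  refine ⟨t, b, fun i => by rw [hb, ht], fun s => ?_⟩
  have hval : ∀ j : ZMod p, ρ.character (pw x j) = ∑ i, ZMod.stdAddChar (j * t i) := by
    intro j
    refine trace_eq_sum_of_eigenbasis _ b _ fun i => ?_
    rw [pw, map_pow]
    have key : ∀ m : ℕ, (ρ x ^ m) (b i) = μ i ^ m • b i := fun m => by
      induction m with
      | zero => simp
      | succ m ih => rw [pow_succ', Module.End.mul_apply, ih, map_smul, hb, smul_smul, pow_succ]
    rw [key, ht, ← AddChar.map_nsmul_eq_pow, nsmul_eq_mul, ZMod.natCast_zmod_val]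
  simp only [cf, hval, Finset.sum_mul, ← AddChar.map_add_eq_mul]
  rw [Finset.sum_comm]
  have : ∀ i, ∑ j : ZMod p, ZMod.stdAddChar (j * t i + -(j * s)) =
      if t i = s then (p : ℂ) else 0 := fun i => by
    rw [← if_congr sub_eq_zero rfl rfl, ← sum_stdAddChar]
    exact Finset.sum_congr rfl fun j _ => congrArg _ (by ring)
  simp only [this, ← Finset.sum_filter, Finset.sum_const, nsmul_eq_mul]
  field_simp [p_ne (p := p)]

include hx in
theorem cf_nat {χ : R → ℂ} (h : IsCharacter R χ) (s : ZMod p) : ∃ n : ℕ, cf x χ s = n := by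
  obtain ⟨n, ρ, rfl⟩ := h
  obtain ⟨t, b, -, hc⟩ := cf_rep hx ρ
  exact ⟨_, hc s⟩

/-- An element of the cyclic group generated by `x` with only the trivial eigenvalue acts trivially. -/
theorem eq_deg_of_cf {χ : R → ℂ} (h : ∀ s : ZMod p, s ≠ 0 → cf x χ s = 0) :
    χ x = χ 1 := by
  have h1 := cf_inv (x := x) χ (1 : ZMod p)
  rw [pw_one] at h1
  rw [h1, ← sum_cf (x := x) (p := p) χ]
  refine Finset.sum_congr rfl fun s _ => ?_
  rcases eq_or_ne s 0 with rfl | hs
  · simp
  · simp [h s hs]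

/-- A natural number coprime to `m` in a given invertible class mod a divisor `p`. -/
theorem exists_coprime_lift {m : ℕ} (hm : m ≠ 0) (hdvd : p ∣ m) (k : (ZMod p)ˣ) :
    ∃ K : ℕ, K.Coprime m ∧ (K : ZMod p) = k := by
  have : NeZero m := ⟨hm⟩
  obtain ⟨K, hK⟩ := ZMod.unitsMap_surjective hdvd k
  refine ⟨(K : ZMod m).val, ZMod.val_coe_unit_coprime K, ?_⟩
  rw [← hK, ZMod.unitsMap_def, Units.coe_map, ZMod.natCast_val]
  rfl

include hx in
/-- Galois conjugation permutes the coefficients. -/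
theorem cf_pow (χ : R → ℂ) {K : ℕ} {k : (ZMod p)ˣ} (hk : (K : ZMod p) = k) (s : ZMod p) :
    cf x (fun g => χ (g ^ K)) ((k : ZMod p) * s) = cf x χ s := by
  unfold cf
  congr 1
  refine Fintype.sum_equiv (Units.mulRight k) _ _ fun j => ?_
  have h : pw x (j * (k : ZMod p)) = pw x j ^ K := by
    rw [pw, ← hk, ZMod.val_mul, pow_mod _ hx, pow_mul, ZMod.val_natCast, pw]
    rw [← pow_mul, ← pow_mul, mul_comm, mul_comm _ K, pow_mul, pow_mod _ hx, pow_mul]
  simp only [Units.mulRight_apply, h, mul_assoc]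

end Cfsg.Agent.DegreeTwoP
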