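import Cfsg.Agent.DegreeTwoP.ShapeLemmas

/-!
# Wielandt degree `2p`: constancy outside the constituents and the fusion group
-/

set_option maxHeartbeats 800000

namespace Cfsg.Agent.DegreeTwoP

open scoped ComplexConjugate
open Cfsg.Agent.Char Module

universe u v

variable {R : Type u} [Group R] [Fintype R] {Ω : Type v} [Fintype Ω] [MulAction R Ω]
  [MulAction.IsPretransitive R Ω] {p : ℕ} [hp : Fact p.Prime] {x : R}

theorem card_fix (H : Hyp R Ω p x) {s : ZMod p} (hs : s ≠ 0) :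
    Nat.card {k : fusion x H.pow // ((k : (ZMod p)ˣ) : ZMod p) * s = s} = 1 := by
  rw [Nat.card_eq_one_iff_unique]
  refine ⟨⟨fun a b => Subtype.ext (Subtype.ext (Units.ext
    (mul_right_cancel₀ hs (a.2.trans b.2.symm))))⟩, ⟨⟨1, by simp⟩⟩⟩

theorem card_le_one (H : Hyp R Ω p x) {s t : ZMod p} (ht : t ≠ 0) :
    Nat.card {k : fusion x H.pow // ((k : (ZMod p)ˣ) : ZMod p) * t = s} ≤ 1 := by
  have : Subsingleton {k : fusion x H.pow // ((k : (ZMod p)ˣ) : ZMod p) * t = s} :=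
    ⟨fun a b => Subtype.ext (Subtype.ext (Units.ext (mul_right_cancel₀ ht (a.2.trans b.2.symm))))⟩
  exact Finite.card_le_one_iff_subsingleton.2 this

open scoped Classical in
/-- Total squared difference of two multiplicity columns. -/
theorem Hyp.sum_sq_sub (H : Hyp R Ω p x) {s t : ZMod p} (hs : s ≠ 0) (ht : t ≠ 0) :
    ∑ φ : IrrCharacter R, ((cn x (φ : R → ℂ) s : ℤ) - cn x (φ : R → ℂ) t) ^ 2 =
      2 - 2 * (Nat.card {k : fusion x H.pow // ((k : (ZMod p)ˣ) : ZMod p) * t = s} : ℤ) := by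
  obtain ⟨C, hC⟩ := H.gramNat
  have h1 : (∑ φ : IrrCharacter R, (cn x (φ : R → ℂ) s : ℤ) * cn x (φ : R → ℂ) s) = C + 1 := by
    exact_mod_cast (hC s s).trans (by rw [card_fix H hs])
  have h2 : (∑ φ : IrrCharacter R, (cn x (φ : R → ℂ) t : ℤ) * cn x (φ : R → ℂ) t) = C + 1 := by
    exact_mod_cast (hC t t).trans (by rw [card_fix H ht])
  have h3 : (∑ φ : IrrCharacter R, (cn x (φ : R → ℂ) s : ℤ) * cn x (φ : R → ℂ) t) =
      C + (Nat.card {k : fusion x H.pow // ((k : (ZMod p)ˣ) : ZMod p) * t = s} : ℤ) := by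
    exact_mod_cast hC s t
  calc _ = (∑ φ : IrrCharacter R, (cn x (φ : R → ℂ) s : ℤ) * cn x (φ : R → ℂ) s) +
        (∑ φ : IrrCharacter R, (cn x (φ : R → ℂ) t : ℤ) * cn x (φ : R → ℂ) t) -
        2 * ∑ φ : IrrCharacter R, (cn x (φ : R → ℂ) s : ℤ) * cn x (φ : R → ℂ) t := by
        rw [Finset.mul_sum, ← Finset.sum_add_distrib, ← Finset.sum_sub_distrib]
        exact Finset.sum_congr rfl fun φ _ => by ring
    _ = _ := by rw [h1, h2, h3]; ring

/-- Outside the constituents the nontrivial multiplicities are constant. -/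
theorem Shape.const (H : Hyp R Ω p x) (S : Shape R Ω x p) (h2 : 2 ≤ S.X.card)
    {φ : IrrCharacter R} (hφ : φ ∉ S.X) {s t : ZMod p} (hs : s ≠ 0) (ht : t ≠ 0) :
    cn x (φ : R → ℂ) s = cn x (φ : R → ℂ) t := by
  classical
  suffices key : ∀ s t : ZMod p, s ≠ 0 → t ≠ 0 → ∀ χ ∈ S.X, ∀ χ' ∈ S.X, χ ≠ χ' →
      cn x (χ : R → ℂ) s = 1 → cn x (χ' : R → ℂ) t = 1 →
      cn x (φ : R → ℂ) s = cn x (φ : R → ℂ) t by
    obtain ⟨χ, hχ, hχs⟩ := S.exists_mem hs
    obtain ⟨χ', hχ', hχt⟩ := S.exists_mem ht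
    by_cases he : χ = χ'
    · subst he
      obtain ⟨χ'', hχ'', hne⟩ := Finset.exists_mem_ne (by omega : 1 < S.X.card) χ
      obtain ⟨u, hu⟩ : ∃ u, cn x (χ'' : R → ℂ) (u : ZMod p) ≠ 0 := by
        obtain ⟨u, -, hu⟩ := H.exists_cn_ne (S.ne_one_of_mem hχ'')
        exact ⟨u, hu⟩
      have hu0 : u ≠ 0 := by rintro rfl; exact hu (S.cnX0 _ hχ'')
      have hu1 : cn x (χ'' : R → ℂ) u = 1 := by have := S.cn_le_one hχ'' u; omega
      rw [key s u hs hu0 χ hχ χ'' hχ'' hne.symm hχs hu1, key t u ht hu0 χ hχ χ'' hχ'' hne.symm hχt hu1]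
    · exact key s t hs ht χ hχ χ' hχ' he hχs hχt
  intro s t hs ht χ hχ χ' hχ' hne hχs hχt
  have hD := H.sum_sq_sub hs ht
  have hz1 : cn x (χ : R → ℂ) t = 0 := by
    by_contra h
    exact hne (S.eq_of_cn hχ hχ' h (by rw [hχt]; exact one_ne_zero))
  have hz2 : cn x (χ' : R → ℂ) s = 0 := by
    by_contra h
    exact hne (S.eq_of_cn hχ hχ' (by rw [hχs]; exact one_ne_zero) h)
  have hge := Finset.sum_le_univ_sum_of_nonneg
    (f := fun ψ : IrrCharacter R => ((cn x (ψ : R → ℂ) s : ℤ) - cn x (ψ : R → ℂ) t) ^ 2)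
    (s := {φ, χ, χ'}) fun ψ => sq_nonneg _
  rw [Finset.sum_insert (by
      simp only [Finset.mem_insert, Finset.mem_singleton, not_or]
      exact ⟨fun e => hφ (e ▸ hχ), fun e => hφ (e ▸ hχ')⟩), Finset.sum_pair hne, hD, hχs, hχt,
    hz1, hz2] at hge
  have hsq : ((cn x (φ : R → ℂ) s : ℤ) - cn x (φ : R → ℂ) t) ^ 2 ≤ 0 := by
    push_cast at hge
    have := (Nat.card {k : fusion x H.pow // ((k : (ZMod p)ˣ) : ZMod p) * t = s}).zero_le
    linarith
  have := (sq_eq_zero_iff.1 (le_antisymm hsq (sq_nonneg _)))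
  omega

/-- The support of a constituent is an orbit of the fusion group. -/
theorem Shape.exists_fusion (H : Hyp R Ω p x) (S : Shape R Ω x p) (h2 : 2 ≤ S.X.card)
    {χ : IrrCharacter R} (hχ : χ ∈ S.X) {s t : ZMod p} (hs : cn x (χ : R → ℂ) s ≠ 0)
    (ht : cn x (χ : R → ℂ) t ≠ 0) :
    ∃ k : fusion x H.pow, ((k : (ZMod p)ˣ) : ZMod p) * t = s := by
  have hs0 : s ≠ 0 := by rintro rfl; exact hs (S.cnX0 _ hχ)
  have ht0 : t ≠ 0 := by rintro rfl; exact ht (S.cnX0 _ hχ)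
  by_contra hne
  push Not at hne
  have hD := H.sum_sq_sub hs0 ht0
  have : IsEmpty {k : fusion x H.pow // ((k : (ZMod p)ˣ) : ZMod p) * t = s} := ⟨fun k => hne k k.2⟩
  rw [Nat.card_of_isEmpty] at hD
  have hzero : ∀ φ : IrrCharacter R, ((cn x (φ : R → ℂ) s : ℤ) - cn x (φ : R → ℂ) t) ^ 2 = 0 := by
    intro φ
    rw [sq_eq_zero_iff, sub_eq_zero, Nat.cast_inj]
    by_cases hφ : φ ∈ S.X
    · by_cases he : φ = χ
      · subst he
        have := S.cn_le_one hφ s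
        have := S.cn_le_one hφ t
        omega
      · have hzs : cn x (φ : R → ℂ) s = 0 := by_contra fun h => he (S.eq_of_cn hφ hχ h hs)
        have hzt : cn x (φ : R → ℂ) t = 0 := by_contra fun h => he (S.eq_of_cn hφ hχ h ht)
        rw [hzs, hzt]
    · exact S.const H h2 hφ hs0 ht0
  rw [Finset.sum_eq_zero fun φ _ => hzero φ] at hD
  norm_num at hD

/-- The fusion group has order `e`. -/
theorem Shape.card_fusion (H : Hyp R Ω p x) (S : Shape R Ω x p) (h2 : 2 ≤ S.X.card) :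
    Nat.card (fusion x H.pow) = S.e := by
  classical
  obtain ⟨χ, hχ, hχ1⟩ := S.exists_mem (one_ne_zero (α := ZMod p))
  have hmem : ∀ k : fusion x H.pow, cn x (χ : R → ℂ) ((k : (ZMod p)ˣ) : ZMod p) = 1 := fun k => by
    rw [← mul_one ((k : (ZMod p)ˣ) : ZMod p), H.cn_fusion (isClassFunction_of_isIrr χ.2) k.2, hχ1]
  have himg : (Finset.univ.image fun k : fusion x H.pow => ((k : (ZMod p)ˣ) : ZMod p)) =
      Finset.univ.filter fun s : ZMod p => cn x (χ : R → ℂ) s ≠ 0 := by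
    ext s
    simp only [Finset.mem_image, Finset.mem_univ, true_and, Finset.mem_filter]
    constructor
    · rintro ⟨k, rfl⟩
      rw [hmem]
      exact one_ne_zero
    · intro hs
      obtain ⟨k, hk⟩ := S.exists_fusion H h2 hχ hs (t := 1) (by rw [hχ1]; exact one_ne_zero)
      exact ⟨k, by rwa [mul_one] at hk⟩
  have hc := congrArg Finset.card himg
  rw [Finset.card_image_of_injective _ fun a b h => Subtype.ext (Units.ext h), Finset.card_univ,
    ← Nat.card_eq_fintype_card] at hc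
  rw [hc, ← S.degX χ hχ, Finset.card_filter]
  exact Finset.sum_congr rfl fun s _ => by
    have := S.cn_le_one hχ s
    split_ifs with h <;> omega

open scoped Classical in
/-- The squared excess of the zero multiplicity over the others. -/
theorem Shape.sum_sq_excess (H : Hyp R Ω p x) (S : Shape R Ω x p) (h2 : 2 ≤ S.X.card) :
    ∑ φ ∈ (insert oneChar S.X)ᶜ,
      ((cn x (φ : R → ℂ) (0 : ZMod p) : ℤ) - cn x (φ : R → ℂ) (1 : ZMod p)) ^ 2 = S.e - 1 := by
  obtain ⟨C, hC⟩ := H.gramNat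
  have h10 : Nat.card {k : fusion x H.pow // ((k : (ZMod p)ˣ) : ZMod p) * 0 = (1 : ZMod p)} = 0 := by
    rw [Nat.card_eq_zero]
    exact Or.inl ⟨fun k => zero_ne_one ((mul_zero _).symm.trans k.2)⟩
  have h00 : Nat.card {k : fusion x H.pow // ((k : (ZMod p)ˣ) : ZMod p) * 0 = (0 : ZMod p)} = S.e := by
    rw [← S.card_fusion H h2]
    exact Nat.card_congr (Equiv.subtypeUnivEquiv fun k => mul_zero _)
  have e1 : (∑ φ : IrrCharacter R, (cn x (φ : R → ℂ) (1 : ZMod p) : ℤ) * cn x (φ : R → ℂ) (1 : ZMod p)) =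
      C + 1 := by exact_mod_cast (hC 1 1).trans (by rw [card_fix H one_ne_zero])
  have e2 : (∑ φ : IrrCharacter R, (cn x (φ : R → ℂ) (1 : ZMod p) : ℤ) * cn x (φ : R → ℂ) (0 : ZMod p)) =
      C := by exact_mod_cast (hC 1 0).trans (by rw [h10, add_zero])
  have e3 : (∑ φ : IrrCharacter R, (cn x (φ : R → ℂ) (0 : ZMod p) : ℤ) * cn x (φ : R → ℂ) (0 : ZMod p)) =
      C + S.e := by exact_mod_cast (hC 0 0).trans (by rw [h00])
  have htot : ∑ φ : IrrCharacter R,
      ((cn x (φ : R → ℂ) (0 : ZMod p) : ℤ) - cn x (φ : R → ℂ) (1 : ZMod p)) ^ 2 = 1 + S.e := by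
    calc _ = (∑ φ : IrrCharacter R, (cn x (φ : R → ℂ) (0 : ZMod p) : ℤ) * cn x (φ : R → ℂ) (0 : ZMod p))
          + (∑ φ : IrrCharacter R, (cn x (φ : R → ℂ) (1 : ZMod p) : ℤ) * cn x (φ : R → ℂ) (1 : ZMod p))
          - 2 * ∑ φ : IrrCharacter R, (cn x (φ : R → ℂ) (1 : ZMod p) : ℤ) * cn x (φ : R → ℂ) (0 : ZMod p) := by
          rw [Finset.mul_sum, ← Finset.sum_add_distrib, ← Finset.sum_sub_distrib]
          exact Finset.sum_congr rfl fun φ _ => by ring
      _ = _ := by rw [e1, e2, e3]; ring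
  rw [← Finset.sum_add_sum_compl (insert oneChar S.X), Finset.sum_insert S.one_notMem,
    cn_one H, cn_one H, if_pos rfl, if_neg one_ne_zero] at htot
  have hX : ∑ φ ∈ S.X, ((cn x (φ : R → ℂ) (0 : ZMod p) : ℤ) - cn x (φ : R → ℂ) (1 : ZMod p)) ^ 2 = 1 := by
    have h := S.sumX 1 one_ne_zero
    calc _ = ∑ φ ∈ S.X, ((cn x (φ : R → ℂ) (1 : ZMod p) : ℤ)) := by
          refine Finset.sum_congr rfl fun φ hφ => ?_
          rw [S.cnX0 φ hφ]
          rcases (show cn x (φ : R → ℂ) (1 : ZMod p) = 0 ∨ cn x (φ : R → ℂ) (1 : ZMod p) = 1 by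
            have := S.cn_le_one hφ 1; omega) with h | h <;> rw [h] <;> norm_num
      _ = 1 := by exact_mod_cast h
  rw [hX] at htot
  push_cast at htot
  linarith

end Cfsg.Agent.DegreeTwoP
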