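import Mathlib.GroupTheory.GroupAction.Jordan
import Mathlib.GroupTheory.GroupAction.MultipleTransitivity
import Mathlib.GroupTheory.Perm.Cycle.Type
import Mathlib.GroupTheory.Sylow

/-!
# Primitive groups of degree `2p`: elementary facts
-/

namespace Cfsg.Agent.DegreeTwoP

open MulAction

universe u

variable {α : Type u} [Fintype α] [DecidableEq α] {p : ℕ}

/-- A group acting freely has order dividing the degree. -/
theorem card_dvd_of_free {K : Type*} [Group K] [MulAction K α]
    (h : ∀ (k : K) (a : α), k • a = a → k = 1) : Nat.card K ∣ Fintype.card α := by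
  have : ∀ a : α, Nat.card (orbit K a) = Nat.card K := fun a =>
    (Nat.card_eq_of_bijective (fun k : K => (⟨k • a, ⟨k, rfl⟩⟩ : orbit K a))
      ⟨fun k l hkl => inv_mul_eq_one.1 (h _ a (by
          rw [mul_smul, inv_smul_eq_iff]
          exact (congrArg Subtype.val hkl).symm)),
        fun ⟨_, k, hk⟩ => ⟨k, Subtype.ext hk⟩⟩).symm
  rw [← Nat.card_eq_fintype_card, Nat.card_congr (selfEquivSigmaOrbits K α)]
  classical
  let _ := Fintype.ofFinite (orbitRel.Quotient K α)
  rw [Nat.card_sigma]
  exact Finset.dvd_sum fun q _ => (this _).symm.dvd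

/-- In a faithful primitive group of composite degree, a point stabilizer fixes one point. -/
theorem eq_of_stab_fix (hp : p.Prime) (hα : Fintype.card α = 2 * p) (G : Subgroup (Equiv.Perm α))
    (hG : IsPreprimitive G α) {w z : α} (h : ∀ g : G, g • w = w → g • z = z) : z = w := by
  by_contra hzw
  have : Nontrivial α := ⟨⟨z, w, hzw⟩⟩
  have := hG.toIsPretransitive
  have hco := IsPreprimitive.isCoatom_stabilizer_of_isPreprimitive (G := G) w
  have htop : stabilizer G z ≠ ⊤ := by
    intro htop
    obtain ⟨g, hg⟩ := exists_smul_eq G z w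
    exact hzw ((mem_stabilizer_iff.1 (htop ▸ Subgroup.mem_top g)).symm.trans hg)
  have heq : stabilizer G z = stabilizer G w :=
    (hco.le_iff.1 (show stabilizer G w ≤ stabilizer G z from fun g hg => h g hg)).resolve_left htop
  obtain ⟨g, hg⟩ := exists_smul_eq G w z
  have hgn : g ∈ Subgroup.normalizer ((stabilizer G w : Subgroup G) : Set G) := by
    rw [Subgroup.mem_normalizer_iff]
    intro k
    conv_rhs => rw [← heq, mem_stabilizer_iff, mul_smul, mul_smul, inv_smul_eq_iff.2 hg.symm,
      ← hg, smul_left_cancel_iff]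
    rfl
  have hnorm : Subgroup.normalizer ((stabilizer G w : Subgroup G) : Set G) = ⊤ := by
    refine (hco.le_iff.1 Subgroup.le_normalizer).resolve_right fun h' => ?_
    rw [h', mem_stabilizer_iff, hg] at hgn
    exact hzw hgn
  have hall : ∀ k ∈ stabilizer G w, k = 1 := fun k hk => by
    refine Subtype.ext (Equiv.ext fun u => ?_)
    obtain ⟨c, rfl⟩ := exists_smul_eq G w u
    have hc : c⁻¹ * k * c ∈ stabilizer G w :=
      (Subgroup.mem_normalizer_iff''.1 (hnorm ▸ Subgroup.mem_top c) k).1 hk
    rw [mem_stabilizer_iff, mul_smul, mul_smul, inv_smul_eq_iff] at hc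
    exact hc
  have hcard : Nat.card G = 2 * p := by
    rw [← hα, ← Nat.card_eq_fintype_card]
    refine Nat.card_eq_of_bijective (fun k : G => k • w) ⟨fun k l hkl => ?_, fun u => exists_smul_eq G w u⟩
    exact inv_mul_eq_one.1 (hall _ (by
      rw [mem_stabilizer_iff, mul_smul, inv_smul_eq_iff]; exact hkl.symm))
  have : Fact p.Prime := ⟨hp⟩
  obtain ⟨y, hy⟩ := exists_prime_orderOf_dvd_card' (G := G) p (hcard ▸ dvd_mul_left p 2)
  have hbot : stabilizer G w = ⊥ := (Subgroup.eq_bot_iff_forall _).2 hall
  rw [hbot] at hco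
  have htop' : Subgroup.zpowers y = ⊤ := by
    refine hco.2 _ (bot_lt_iff_ne_bot.2 fun hy0 => ?_)
    rw [Subgroup.zpowers_eq_bot] at hy0
    rw [hy0, orderOf_one] at hy
    exact hp.ne_one hy.symm
  have h2 := Nat.card_zpowers y
  rw [htop', Subgroup.card_top, hcard, hy] at h2
  have := hp.pos
  omega

/-- Transitivity of a point stabilizer on the other points gives double transitivity. -/
theorem two_trans_of_orbit (G : Subgroup (Equiv.Perm α)) [IsPretransitive G α] (w : α)
    (h : ∀ b c : α, b ≠ w → c ≠ w → c ∈ orbit (stabilizer G w) b) :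
    IsMultiplyPretransitive G α 2 := by
  rw [is_two_pretransitive_iff]
  intro a b c d hab hcd
  obtain ⟨g, hg⟩ := exists_smul_eq G a w
  obtain ⟨k, hk⟩ := exists_smul_eq G c w
  have hb : g • b ≠ w := fun h' => hab (smul_left_cancel g (hg.trans h'.symm))
  have hd : k • d ≠ w := fun h' => hcd (smul_left_cancel k (hk.trans h'.symm))
  obtain ⟨⟨s, hs⟩, hs'⟩ := h _ _ hb hd
  change s • g • b = k • d at hs'
  refine ⟨k⁻¹ * s * g, ?_, ?_⟩
  · rw [mul_smul, mul_smul, hg, mem_stabilizer_iff.1 hs, inv_smul_eq_iff, hk]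
  · rw [mul_smul, mul_smul, hs', inv_smul_smul]

omit [DecidableEq α] in
theorem two_trans_of_rank (G : Subgroup (Equiv.Perm α)) [IsPretransitive G α] (w : α)
    (h : Nat.card (orbitRel.Quotient (stabilizer G w) α) = 2) :
    IsMultiplyPretransitive G α 2 := by
  classical
  refine two_trans_of_orbit G w fun b c hb hc => ?_
  have hne : ∀ {u : α}, u ≠ w → (Quotient.mk'' u : orbitRel.Quotient (stabilizer G w) α) ≠ Quotient.mk'' w :=
    fun {u} hu h' => by
      obtain ⟨g, hg⟩ := orbitRel_apply.1 (Quotient.exact' h')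
      exact hu (hg.symm.trans g.2)
  obtain ⟨u, v, huv, huniv⟩ := Nat.card_eq_two_iff.1 h
  have hmem : ∀ q : orbitRel.Quotient (stabilizer G w) α, q = u ∨ q = v := fun q => by
    have : q ∈ ({u, v} : Set _) := huniv ▸ Set.mem_univ q
    simpa using this
  have : (Quotient.mk'' c : orbitRel.Quotient (stabilizer G w) α) = Quotient.mk'' b := by
    rcases hmem (Quotient.mk'' c) with h1 | h1 <;> rcases hmem (Quotient.mk'' b) with h2 | h2 <;>
      rcases hmem (Quotient.mk'' w) with h3 | h3 <;>
      first
        | exact h1.trans h2.symm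
        | exact absurd (h1.trans h3.symm) (hne hc)
        | exact absurd (h2.trans h3.symm) (hne hb)
  exact orbitRel_apply.1 (Quotient.exact' this)

/-- An element of order `p` with a fixed point forces double transitivity (Jordan). -/
theorem two_trans_of_fix (hp : p.Prime) (hα : Fintype.card α = 2 * p) (G : Subgroup (Equiv.Perm α))
    (hG : IsPreprimitive G α) {y : Equiv.Perm α} (hy : y ∈ G) (ho : orderOf y = p) {u : α}
    (hu : y u = u) : IsMultiplyPretransitive G α 2 := by
  have hop : (orderOf y).Prime := ho ▸ hp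
  obtain ⟨n, hn⟩ := Equiv.Perm.cycleType_prime_order hop
  have hs : y.support.card = (n + 1) * p := by
    rw [← Equiv.Perm.sum_cycleType, hn, Multiset.sum_replicate, smul_eq_mul, ho]
  have hlt : y.support.card < 2 * p := by
    rw [← hα]
    exact Finset.card_lt_univ_of_notMem (x := u) (by simp [hu])
  have hn0 : n = 0 := by
    rw [hs] at hlt
    have := Nat.lt_of_mul_lt_mul_right hlt
    omega
  subst hn0
  have hcyc : y.IsCycle := by rw [← Equiv.Perm.card_cycleType_eq_one, hn, Multiset.card_replicate]
  refine IsPreprimitive.is_two_pretransitive hG (s := (y.support : Set α)ᶜ) (n := p - 1) ?_ ?_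
    (Equiv.Perm.isPretransitive_of_isCycle_mem hcyc hy)
  · rw [Set.ncard_compl, Set.ncard_coe_finset, hs, Nat.card_eq_fintype_card, hα]
    have := hp.pos
    omega
  · rw [Nat.card_eq_fintype_card, hα]
    have := hp.two_le
    omega

omit [DecidableEq α] in
/-- Degree four. -/
theorem two_trans_four (hα : Fintype.card α = 4) (G : Subgroup (Equiv.Perm α))
    (hG : IsPreprimitive G α) (w : α) : IsMultiplyPretransitive G α 2 := by
  classical
  have := hG.toIsPretransitive
  refine two_trans_of_orbit G w fun b c hb hc => ?_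
  by_contra hne
  have h2 : ∀ d, d ≠ w → 2 ≤ Nat.card (orbit (stabilizer G w) d) := fun d hd => by
    by_contra hlt
    have : Subsingleton (orbit (stabilizer G w) d) := Finite.card_le_one_iff_subsingleton.1 (by omega)
    refine hd (eq_of_stab_fix (p := 2) Nat.prime_two hα G hG fun g hg => ?_)
    exact congrArg Subtype.val (Subsingleton.elim
      (⟨g • d, ⟨⟨g, hg⟩, rfl⟩⟩ : orbit (stabilizer G w) d) ⟨d, mem_orbit_self d⟩)
  have hdisj : Disjoint (orbit (stabilizer G w) b).toFinset (orbit (stabilizer G w) c).toFinset := by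
    rw [Finset.disjoint_left]
    intro d hd hd'
    rw [Set.mem_toFinset] at hd hd'
    refine hne ?_
    rw [← orbit_eq_iff.2 hd, orbit_eq_iff.2 hd']
    exact mem_orbit_self c
  have hw : ∀ d, d ≠ w → w ∉ (orbit (stabilizer G w) d).toFinset := by
    intro d hd hd'
    rw [Set.mem_toFinset] at hd'
    obtain ⟨g, hg⟩ := hd'
    exact hd (smul_left_cancel g (hg.trans g.2.symm))
  have hsub := Finset.card_lt_univ_of_notMem (x := w)
    (s := (orbit (stabilizer G w) b).toFinset ∪ (orbit (stabilizer G w) c).toFinset)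
    (by simp only [Finset.mem_union, not_or]; exact ⟨hw b hb, hw c hc⟩)
  rw [Finset.card_union_of_disjoint hdisj, hα, Set.toFinset_card, Set.toFinset_card,
    ← Nat.card_eq_fintype_card, ← Nat.card_eq_fintype_card] at hsub
  have := h2 b hb
  have := h2 c hc
  omega

end Cfsg.Agent.DegreeTwoP
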