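import Cfsg.Agent.DegreeTwoP.Cases
import Cfsg.Agent.DegreeTwoP.Primitive

/-!
# Wielandt's theorem on primitive groups of degree `2p`
-/

set_option maxHeartbeats 1000000

namespace Cfsg.Agent.DegreeTwoP

open MulAction
open scoped Pointwise

universe u

variable {α : Type u} [Fintype α] [DecidableEq α] {p : ℕ}

/-- A fixed-point-free element of order `p` commutes only with free elements. -/
theorem free_of_commute (hp : p.Prime) (hα : Fintype.card α = 2 * p) {x g : Equiv.Perm α}
    (hx : orderOf x = p) (hxf : ∀ i : ℕ, ¬ p ∣ i → ∀ u : α, (x ^ i) u ≠ u) (hcomm : Commute g x)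
    {u : α} (hu : g u = u) : g ^ p = 1 := by
  classical
  have hinj : ∀ w : α, Function.Injective fun i : Fin p => (x ^ (i : ℕ)) w := by
    have key : ∀ w : α, ∀ i j : ℕ, i < j → j < p → (x ^ i) w ≠ (x ^ j) w := by
      intro w i j hij hj he
      refine hxf (j - i) (fun hd => ?_) ((x ^ i) w) ?_
      · have := Nat.le_of_dvd (by omega) hd
        omega
      · rw [← Equiv.Perm.mul_apply, ← pow_add, Nat.sub_add_cancel hij.le, he]
    intro w i j he
    rcases lt_trichotomy (i : ℕ) j with h | h | h
    · exact absurd he (key w i j h j.2)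
    · exact Fin.ext h
    · exact absurd he.symm (key w j i h i.2)
  have hcl : ∀ w z : α, z ∈ Finset.univ.image (fun i : Fin p => (x ^ (i : ℕ)) w) ↔
      ∃ i : ℕ, (x ^ i) w = z := fun w z => by
    simp only [Finset.mem_image, Finset.mem_univ, true_and]
    refine ⟨fun ⟨i, hi⟩ => ⟨i, hi⟩, fun ⟨i, hi⟩ => ⟨⟨i % p, Nat.mod_lt _ hp.pos⟩, ?_⟩⟩
    show (x ^ (i % p)) w = z
    rwa [← hx, pow_mod_orderOf]
  obtain ⟨v, hv⟩ : ∃ v : α, v ∉ Finset.univ.image (fun i : Fin p => (x ^ (i : ℕ)) u) := by
    by_contra! h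
    have hc := Finset.card_image_of_injective Finset.univ (hinj u)
    rw [Finset.eq_univ_iff_forall.2 h, Finset.card_univ, Finset.card_univ, hα, Fintype.card_fin] at hc
    have := hp.pos
    omega
  have hdisj : Disjoint (Finset.univ.image (fun i : Fin p => (x ^ (i : ℕ)) u))
      (Finset.univ.image (fun i : Fin p => (x ^ (i : ℕ)) v)) := by
    rw [Finset.disjoint_left]
    intro z hz hz'
    obtain ⟨i, rfl⟩ := (hcl u z).1 hz
    obtain ⟨j, hj⟩ := (hcl v _).1 hz'
    refine hv ((hcl u v).2 ⟨(p - j % p) + i, ?_⟩)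
    rw [pow_add, Equiv.Perm.mul_apply, ← hj, ← Equiv.Perm.mul_apply, ← pow_add,
      ← pow_mod_orderOf, hx]
    have hjp := Nat.mod_lt j hp.pos
    rw [show (p - j % p + j) % p = 0 by
      rw [Nat.add_mod, ← Nat.add_mod_mod, Nat.mod_mod, Nat.mod_add_mod, Nat.sub_add_cancel hjp.le,
        Nat.mod_self],
      pow_zero, Equiv.Perm.one_apply]
  have hcover : ∀ z : α, z ∈ Finset.univ.image (fun i : Fin p => (x ^ (i : ℕ)) u) ∨
      z ∈ Finset.univ.image (fun i : Fin p => (x ^ (i : ℕ)) v) := by
    intro z
    rw [← Finset.mem_union]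
    have : Finset.univ.image (fun i : Fin p => (x ^ (i : ℕ)) u) ∪
        Finset.univ.image (fun i : Fin p => (x ^ (i : ℕ)) v) = Finset.univ := by
      refine Finset.eq_univ_of_card _ ?_
      rw [Finset.card_union_of_disjoint hdisj, Finset.card_image_of_injective _ (hinj u),
        Finset.card_image_of_injective _ (hinj v), Finset.card_univ, Fintype.card_fin, hα]
      ring
    rw [this]
    exact Finset.mem_univ z
  have hgx : ∀ (i : ℕ) (w : α), g ((x ^ i) w) = (x ^ i) (g w) := fun i w => by
    rw [← Equiv.Perm.mul_apply, (hcomm.pow_right i).eq, Equiv.Perm.mul_apply]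
  obtain ⟨j, hj⟩ : ∃ j : ℕ, (x ^ j) v = g v := by
    rcases hcover (g v) with h | h
    · exfalso
      obtain ⟨i, hi⟩ := (hcl u _).1 h
      have h2 : g v = g ((x ^ i) u) := by rw [hgx, hu, hi]
      exact hv ((hcl u v).2 ⟨i, (g.injective h2).symm⟩)
    · exact (hcl v _).1 h
  have hpow : ∀ n : ℕ, (g ^ n) v = (x ^ (j * n)) v := fun n => by
    induction n with
    | zero => simp
    | succ n ih =>
      rw [pow_succ', Equiv.Perm.mul_apply, ih, hgx, ← hj, ← Equiv.Perm.mul_apply, ← pow_add]
      rfl
  refine Equiv.ext fun z => ?_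
  have hfix : ∀ (n : ℕ) (i : ℕ) (w : α), (g ^ n) ((x ^ i) w) = (x ^ i) ((g ^ n) w) := fun n i w => by
    rw [← Equiv.Perm.mul_apply, ((hcomm.pow_right i).pow_left n).eq, Equiv.Perm.mul_apply]
  rcases hcover z with h | h
  · obtain ⟨i, rfl⟩ := (hcl u z).1 h
    rw [hfix]
    have : ∀ n : ℕ, (g ^ n) u = u := fun n => by
      induction n with
      | zero => simp
      | succ n ih => rw [pow_succ, Equiv.Perm.mul_apply, hu, ih]
    rw [this]
    rfl
  · obtain ⟨i, rfl⟩ := (hcl v z).1 h
    rw [hfix, hpow, mul_comm, pow_mul, ← hx, pow_orderOf_eq_one, one_pow]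
    rfl

/-- The reduction to the normal closure of an element of order `p`. -/
theorem main (hp : p.Prime) (hα : Fintype.card α = 2 * p) (G : Subgroup (Equiv.Perm α))
    (hG : IsPreprimitive G α) (a₀ : α) :
    IsMultiplyPretransitive G α 2 ∨
    (Nat.card (orbitRel.Quotient (stabilizer G a₀) α) = 3 ∧
      ∃ a : ℕ, 0 < a ∧ p = 2 * a ^ 2 + 2 * a + 1 ∧ ∀ b : α, b ≠ a₀ →
        Nat.card (orbit (stabilizer G a₀) b) = a * (2 * a + 1) ∨
        Nat.card (orbit (stabilizer G a₀) b) = (a + 1) * (2 * a + 1)) := by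
  classical
  have : Fact p.Prime := ⟨hp⟩
  have := hG.toIsPretransitive
  by_cases hp2 : p = 2
  · exact Or.inl (two_trans_four (by omega) G hG a₀)
  by_cases hfix : ∃ y : G, orderOf y = p ∧ ∃ u : α, (y : Equiv.Perm α) u = u
  · obtain ⟨y, hy, u, hu⟩ := hfix
    exact Or.inl (two_trans_of_fix hp hα G hG y.2 (by rw [Subgroup.orderOf_coe, hy]) hu)
  push Not at hfix
  have hdvd : 2 * p ∣ Nat.card G := by
    rw [← hα, ← Nat.card_eq_fintype_card, ← index_stabilizer_of_transitive G a₀]
    exact Subgroup.index_dvd_card _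
  obtain ⟨x, hx⟩ := exists_prime_orderOf_dvd_card' (G := G) p (dvd_trans (dvd_mul_left p 2) hdvd)
  -- every element of `p`-power order is fixed-point-free
  have hfree : ∀ (y : G), y ^ p = 1 → ∀ u : α, (y : Equiv.Perm α) u = u → y = 1 := by
    intro y hy u hu
    by_contra h1
    exact hfix y (orderOf_eq_prime hy h1) u hu
  set R : Subgroup G := Subgroup.normalClosure {x} with hR
  have hRn : R.Normal := Subgroup.normalClosure_normal
  have hxR : x ∈ R := Subgroup.subset_normalClosure (Set.mem_singleton x)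
  have hxne : x ≠ 1 := fun h => by rw [h, orderOf_one] at hx; exact hp.ne_one hx.symm
  have hev : ∀ r ∈ R, Equiv.Perm.sign (r : Equiv.Perm α) = 1 := by
    have hle : R ≤ (Equiv.Perm.sign.comp G.subtype).ker := by
      refine Subgroup.normalClosure_le_normal ?_
      rw [Set.singleton_subset_iff, SetLike.mem_coe, MonoidHom.mem_ker]
      have h := congrArg (Equiv.Perm.sign.comp G.subtype) (pow_orderOf_eq_one x)
      rw [map_pow, map_one, hx] at h
      rcases Int.units_eq_one_or ((Equiv.Perm.sign.comp G.subtype) x) with h1 | h1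
      · exact h1
      · rw [h1, (hp.odd_of_ne_two hp2).neg_one_pow] at h
        exact absurd h (by decide)
    exact fun r hr => hle hr
  have htrans : ∀ D : Subgroup G, D.Normal → D ≠ ⊥ → IsPretransitive D α := by
    intro D hD hne
    refine IsQuasiPreprimitive.isPretransitive_of_normal fun huniv => hne ?_
    rw [Subgroup.eq_bot_iff_forall]
    intro d hd
    refine Subtype.ext (Equiv.ext fun u => ?_)
    have hu : u ∈ fixedPoints D α := huniv ▸ Set.mem_univ u
    exact hu ⟨d, hd⟩
  have : IsPretransitive R α := htrans R hRn fun h => hxne (by rw [h] at hxR; exact hxR)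
  set xR : R := ⟨x, hxR⟩ with hxRdef
  have hxRo : orderOf xR = p := by rw [← Subgroup.orderOf_coe]; exact hx
  have hxperm : orderOf (x : Equiv.Perm α) = p := by rw [Subgroup.orderOf_coe]; exact hx
  have hxfpf : ∀ i : ℕ, ¬ p ∣ i → ∀ u : α, ((x : Equiv.Perm α) ^ i) u ≠ u := by
    intro i hi u hu
    refine hi (hx ▸ orderOf_dvd_of_pow_eq_one (hfree (x ^ i) ?_ u (by simpa using hu)))
    rw [← pow_mul, mul_comm, pow_mul, ← hx, pow_orderOf_eq_one, one_pow]
  have hcard : Nat.card α = 2 * p := by rw [Nat.card_eq_fintype_card, hα]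
  -- the centralizer of `x` in `R`
  have hcent : ∀ g : R, Commute g xR → g ∈ Subgroup.zpowers xR := by
    set C := Subgroup.centralizer ({xR} : Set R) with hC
    have hsemi : ∀ (c : C) (u : α), c • u = u → c = 1 := by
      intro c u hu
      have hcomm : Commute (((c : R) : G) : Equiv.Perm α) (x : Equiv.Perm α) :=
        congrArg (fun r : R => ((r : G) : Equiv.Perm α))
          (Subgroup.mem_centralizer_singleton_iff.1 c.2)
      have hpow := free_of_commute hp hα hxperm hxfpf hcomm (u := u) hu
      exact Subtype.ext (Subtype.ext (hfree ((c : R) : G) (Subtype.ext (by simpa using hpow)) u hu))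
    have hdvdC := card_dvd_of_free hsemi
    rw [hα] at hdvdC
    have hzC : Subgroup.zpowers xR ≤ C :=
      Subgroup.zpowers_le.2 (Subgroup.mem_centralizer_singleton_iff.2 rfl)
    have hpC : p ∣ Nat.card C := by
      have h := Subgroup.card_dvd_of_le hzC
      rwa [Nat.card_zpowers, hxRo] at h
    have hodd : ¬ 2 ∣ Nat.card C := by
      intro h2
      have : Fact (Nat.Prime 2) := ⟨Nat.prime_two⟩
      obtain ⟨t, ht⟩ := exists_prime_orderOf_dvd_card' (G := C) 2 h2
      set τ : Equiv.Perm α := (((t : R) : G) : Equiv.Perm α) with hτ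
      have hτo : orderOf τ = 2 := by rw [hτ, Subgroup.orderOf_coe, Subgroup.orderOf_coe, Subgroup.orderOf_coe, ht]
      have hnofix : Fintype.card (Function.fixedPoints τ) = 0 := by
        rw [Fintype.card_eq_zero_iff]
        refine ⟨fun ⟨u, hu⟩ => ?_⟩
        have := hsemi t u hu
        rw [this, orderOf_one] at ht
        omega
      have hs := Equiv.Perm.sign_of_pow_two_eq_one (σ := τ) (hτo ▸ pow_orderOf_eq_one τ)
      rw [hnofix, hα, Nat.sub_zero, Nat.mul_div_cancel_left _ two_pos, (hp.odd_of_ne_two hp2).neg_one_pow,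
        hev _ (t : R).2] at hs
      exact absurd hs (by decide)
    have hCp : Nat.card C = p := by
      obtain ⟨m, hm⟩ := hpC
      rw [hm] at hdvdC hodd ⊢
      have hm2 : m ∣ 2 := Nat.dvd_of_mul_dvd_mul_left hp.pos (by rwa [mul_comm 2 p] at hdvdC)
      rcases (Nat.dvd_prime Nat.prime_two).1 hm2 with rfl | rfl
      · rw [mul_one]
      · exact absurd (dvd_mul_left 2 p) hodd
    intro g hg
    rw [Subgroup.eq_of_le_of_card_ge hzC (by rw [hCp, Nat.card_zpowers, hxRo])]
    exact Subgroup.mem_centralizer_singleton_iff.2 hg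
  -- generation
  have hgen : Subgroup.normalClosure ({xR} : Set R) = ⊤ := by
    have hfreeR : ∀ (Q : Subgroup R), IsPGroup p Q → Nat.card Q ≤ p := by
      intro Q hQ
      have hd : Nat.card Q ∣ Fintype.card α := by
        refine card_dvd_of_free fun k u hk => ?_
        by_contra hk1
        obtain ⟨n, hn⟩ := IsPGroup.iff_orderOf.1 hQ k
        have hn0 : n ≠ 0 := by
          rintro rfl
          rw [pow_zero, orderOf_eq_one_iff] at hn
          exact hk1 hn
        obtain ⟨n', rfl⟩ := Nat.exists_eq_succ_of_ne_zero hn0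
        have hkn : (k ^ p ^ n') • u = u := MulAction.mem_stabilizer_iff.1 (pow_mem (MulAction.mem_stabilizer_iff.2 hk) _)
        have h1 : (((k ^ p ^ n' : Q) : R) : G) = 1 := by
          refine hfree _ ?_ u hkn
          have h0 : (k ^ p ^ n') ^ p = 1 := by
            rw [← pow_mul, ← pow_succ, show n' + 1 = n'.succ from rfl, ← hn, pow_orderOf_eq_one]
          exact congrArg (fun q : Q => ((q : R) : G)) h0
        have h2 : orderOf k ∣ p ^ n' := orderOf_dvd_of_pow_eq_one (Subtype.ext (Subtype.ext h1))
        rw [hn, Nat.pow_dvd_pow_iff_le_right hp.one_lt] at h2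
        omega
      obtain ⟨n, hn⟩ := hQ.exists_card_eq
      rw [hn] at hd ⊢
      rw [hα] at hd
      rcases n with _ | _ | n
      · simp [hp.one_le]
      · simp
      · exfalso
        rw [pow_succ', pow_succ', mul_comm 2 p] at hd
        have h2 := Nat.dvd_of_mul_dvd_mul_left hp.pos hd
        have := Nat.le_of_dvd two_pos (dvd_trans (dvd_mul_right p _) h2)
        have := hp.two_le
        omega
    have hsyl : ∀ y : R, orderOf y = p → ∃ Q : Sylow p R, (Q : Subgroup R) = Subgroup.zpowers y := by
      intro y hy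
      have hyp : IsPGroup p (Subgroup.zpowers y) := IsPGroup.of_card (n := 1) (by
        rw [Nat.card_zpowers, hy, pow_one])
      obtain ⟨Q, hQ⟩ := hyp.exists_le_sylow
      refine ⟨Q, (Subgroup.eq_of_le_of_card_ge hQ ?_).symm⟩
      rw [Nat.card_zpowers, hy]
      exact hfreeR _ Q.isPGroup'
    set M := Subgroup.normalClosure ({xR} : Set R) with hM
    have hconjM : ∀ g : G, ∀ hy : g * x * g⁻¹ ∈ R, (⟨g * x * g⁻¹, hy⟩ : R) ∈ M := by
      intro g hy
      have ho : orderOf (⟨g * x * g⁻¹, hy⟩ : R) = p := by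
        rw [← Subgroup.orderOf_coe]
        exact (orderOf_injective (MulAut.conj g).toMonoidHom (MulAut.conj g).injective x).trans hx
      obtain ⟨Q, hQ⟩ := hsyl _ ho
      obtain ⟨P, hP⟩ := hsyl xR hxRo
      obtain ⟨r, hr⟩ := MulAction.exists_smul_eq R P Q
      have hle : (Q : Subgroup R) ≤ M := by
        rw [← hr]
        intro q hq
        rw [Sylow.coe_subgroup_smul, Subgroup.mem_pointwise_smul_iff_inv_smul_mem, hP] at hq
        have hqM : (MulAut.conj r)⁻¹ • q ∈ M :=
          Subgroup.zpowers_le.2 (Subgroup.subset_normalClosure (Set.mem_singleton xR)) hq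
        have h := Subgroup.normalClosure_normal.conj_mem _ hqM r
        have he : r * ((MulAut.conj r)⁻¹ • q) * r⁻¹ = q := by
          rw [MulAut.smul_def]
          simp [mul_assoc]
        rwa [he] at h
      exact hle (hQ ▸ Subgroup.mem_zpowers _)
    have hle : R ≤ M.map R.subtype := by
      conv_lhs => rw [hR]
      rw [Subgroup.normalClosure, Subgroup.closure_le]
      intro y hy
      obtain ⟨z, hz, hy'⟩ := Group.mem_conjugatesOfSet_iff.1 hy
      rw [Set.mem_singleton_iff] at hz
      rw [hz] at hy'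
      obtain ⟨g, rfl⟩ := isConj_iff.1 hy'
      exact ⟨⟨_, hRn.conj_mem x hxR g⟩, hconjM g _, rfl⟩
    refine eq_top_iff.2 fun r _ => ?_
    obtain ⟨m, hm, hmr⟩ := hle r.2
    rwa [← Subtype.ext hmr]
  have hRsmall : Nat.card R ≠ p := by
    intro h
    have h2 := index_stabilizer_of_transitive R a₀
    have h3 := Subgroup.index_dvd_card (stabilizer R a₀)
    rw [h2, hcard, h] at h3
    have := Nat.le_of_dvd hp.pos h3
    have := hp.pos
    omega
  -- derived subgroup
  have hder : ∀ a b : α, ∃ r ∈ commutator R, r • a = b := by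
    set D : Subgroup G := (commutator R).map R.subtype with hD
    have hDn : D.Normal := ConjAct.normal_of_characteristic_of_normal
    have hDne : D ≠ ⊥ := by
      intro h
      rw [hD, Subgroup.map_eq_bot_iff_of_injective _ R.subtype_injective] at h
      have hcomm : ∀ a b : R, a * b = b * a := fun a b => by
        have hab : a * b * a⁻¹ * b⁻¹ ∈ commutator R :=
          Subgroup.commutator_mem_commutator (Subgroup.mem_top a) (Subgroup.mem_top b)
        rw [h, Subgroup.mem_bot, mul_inv_eq_one, mul_inv_eq_iff_eq_mul] at hab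
        exact hab
      refine hRsmall ?_
      have ht : Subgroup.zpowers xR = ⊤ := eq_top_iff.2 fun g _ => hcent g (hcomm g xR)
      rw [← Subgroup.card_top, ← ht, Nat.card_zpowers, hxRo]
    have := htrans D hDn hDne
    intro a b
    obtain ⟨⟨d, r, hr, rfl⟩, hd⟩ := exists_smul_eq D a b
    exact ⟨r, hr, hd⟩
  -- a point stabilizer fixes one point
  have hone : ∀ w z : α, (∀ r : R, r • w = w → r • z = z) → z = w := by
    intro w z hwz
    set B : Set α := {u | ∀ r : R, r • u = u ↔ r • w = w} with hB
    have hiff : ∀ v, (∀ r : R, r • w = w → r • v = v) → v ∈ B := by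
      intro v hv
      have hle : stabilizer R w ≤ stabilizer R v := fun r hr => hv r hr
      have hc : ∀ y : α, (stabilizer R y).index = 2 * p := fun y => by
        rw [index_stabilizer_of_transitive, hcard]
      have heq : stabilizer R w = stabilizer R v := by
        refine Subgroup.eq_of_le_of_card_ge hle ?_
        have h1 := Subgroup.card_mul_index (stabilizer R w)
        have h2 := Subgroup.card_mul_index (stabilizer R v)
        rw [hc] at h1 h2
        exact Nat.le_of_eq (Nat.eq_of_mul_eq_mul_right (by have := hp.pos; omega) (h2.trans h1.symm))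
      intro r
      rw [← mem_stabilizer_iff, ← heq, mem_stabilizer_iff]
    have hzB := hiff z hwz
    have hwB : w ∈ B := fun r => Iff.rfl
    have hblock : IsBlock G B := by
      refine isBlock_iff_smul_eq_of_nonempty.2 fun g ⟨u, ⟨v, hv, hvu⟩, hu⟩ => ?_
      have hsub : g • B ⊆ B := by
        rintro _ ⟨y, hy, rfl⟩ r
        have hc : g⁻¹ * (r : G) * g ∈ R := by simpa using hRn.conj_mem r r.2 g⁻¹
        have key : ∀ q : α, r • (g • q) = g • q ↔ (⟨_, hc⟩ : R) • q = q := fun q => by
          show (r : G) • g • q = g • q ↔ (g⁻¹ * (r : G) * g) • q = q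
          rw [mul_smul, mul_smul, inv_smul_eq_iff]
        rw [key y, hy, ← hv, ← key v]
        change g • v = u at hvu
        rw [hvu, hu]
      refine Set.eq_of_subset_of_ncard_le hsub ?_ (Set.toFinite _)
      rw [Set.ncard_smul_set]
    rcases hblock.subsingleton_or_eq_univ with h | h
    · exact h hzB hwB
    · exfalso
      have hfreeR' : ∀ (r : R) (u : α), r • u = u → r = 1 := by
        intro r u hu
        refine Subtype.ext (Subtype.ext (Equiv.ext fun y => ?_))
        have h1 : r • w = w := ((h ▸ Set.mem_univ u : u ∈ B) r).1 hu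
        exact ((h ▸ Set.mem_univ y : y ∈ B) r).2 h1
      have hd := card_dvd_of_free hfreeR'
      rw [hα] at hd
      have hidx := Subgroup.card_mul_index (Subgroup.zpowers xR)
      rw [Nat.card_zpowers, hxRo] at hidx
      rw [← hidx, mul_comm 2 p] at hd
      have h12 := Nat.dvd_of_mul_dvd_mul_left hp.pos hd
      rcases (Nat.dvd_prime Nat.prime_two).1 h12 with h2 | h2
      · rw [h2, mul_one] at hidx
        exact hRsmall hidx.symm
      · have := Subgroup.normal_of_index_eq_two h2
        have hle : (⊤ : Subgroup R) ≤ Subgroup.zpowers xR :=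
          hgen ▸ Subgroup.normalClosure_le_normal (Set.singleton_subset_iff.2 (Subgroup.mem_zpowers xR))
        rw [top_le_iff] at hle
        rw [hle, Subgroup.index_top] at h2
        omega
  let _ : Fintype R := Fintype.ofFinite R
  have H : Hyp R α p xR := ⟨hp2, hα, hxRo ▸ pow_orderOf_eq_one xR,
    fun u hu => hxne (hfree x (hx ▸ pow_orderOf_eq_one x) u hu), hcent, hgen, hder, hone⟩
  -- comparison of the suborbits
  have hsub : ∀ b : α, orbit (stabilizer R a₀) b ⊆ orbit (stabilizer G a₀) b := by
    rintro b _ ⟨⟨r, hr⟩, rfl⟩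
    exact ⟨⟨(r : G), hr⟩, rfl⟩
  let f : orbitRel.Quotient (stabilizer R a₀) α → orbitRel.Quotient (stabilizer G a₀) α :=
    Quotient.map' id fun a b hab => orbitRel_apply.2 (hsub b (orbitRel_apply.1 hab))
  have hf : Function.Surjective f := fun q =>
    ⟨Quotient.mk'' (Quotient.out q), Quotient.out_eq' q⟩
  have hle := Nat.card_le_card_of_surjective f hf
  obtain ⟨b, hb⟩ : ∃ b : α, b ≠ a₀ :=
    Fintype.exists_ne_of_one_lt_card (by rw [hα]; have := hp.pos; omega) a₀
  have htwo : 2 ≤ Nat.card (orbitRel.Quotient (stabilizer G a₀) α) := by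
    by_contra hlt
    have : Subsingleton (orbitRel.Quotient (stabilizer G a₀) α) :=
      Finite.card_le_one_iff_subsingleton.1 (by omega)
    obtain ⟨g, hg⟩ := orbitRel_apply.1 (Quotient.exact'
      (Subsingleton.elim (Quotient.mk'' b : orbitRel.Quotient (stabilizer G a₀) α) (Quotient.mk'' a₀)))
    exact hb (hg.symm.trans g.2)
  rcases H.main a₀ with h2 | ⟨h3, a, ha, hpa, hdeg⟩
  · exact Or.inl (two_trans_of_rank G a₀ (by omega))
  · rcases (show Nat.card (orbitRel.Quotient (stabilizer G a₀) α) = 2 ∨
        Nat.card (orbitRel.Quotient (stabilizer G a₀) α) = 3 by omega) with hG2 | hG3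
    · exact Or.inl (two_trans_of_rank G a₀ hG2)
    · refine Or.inr ⟨hG3, a, ha, hpa, fun b hb => ?_⟩
      have hinj : Function.Injective f :=
        ((Nat.bijective_iff_surjective_and_card f).2 ⟨hf, by omega⟩).1
      have heq : orbit (stabilizer G a₀) b = orbit (stabilizer R a₀) b := by
        refine Set.Subset.antisymm (fun c hc => ?_) (hsub b)
        have : f (Quotient.mk'' c) = f (Quotient.mk'' b) := Quotient.sound' (orbitRel_apply.2 hc)
        exact orbitRel_apply.1 (Quotient.exact' (hinj this))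
      rw [heq]
      exact hdeg b hb

end Cfsg.Agent.DegreeTwoP
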