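import Cfsg.Agent.DegreeTwoP.Fourier
import Cfsg.Agent.Char.Suborbit
import Cfsg.Agent.Char.Linear
import Cfsg.Agent.Char.Zero

/-!
# Wielandt degree `2p`: hypotheses, multiplicities, the Gram identity
-/

namespace Cfsg.Agent.DegreeTwoP

open scoped ComplexConjugate
open Cfsg.Agent.Char Module

universe u v

/-- The standing hypotheses on the normal closure of an element of order `p`. -/
structure Hyp (R : Type u) [Group R] (Ω : Type v) [Fintype Ω] [MulAction R Ω] (p : ℕ) (x : R) :
    Prop where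
  odd : p ≠ 2
  card : Fintype.card Ω = 2 * p
  pow : x ^ p = 1
  fpf : ∀ w : Ω, x • w ≠ w
  cent : ∀ g : R, Commute g x → g ∈ Subgroup.zpowers x
  gen : Subgroup.normalClosure ({x} : Set R) = ⊤
  derived : ∀ a b : Ω, ∃ r ∈ commutator R, r • a = b
  fixOne : ∀ w z : Ω, (∀ g : R, g • w = w → g • z = z) → z = w

variable {R : Type u} [Group R] [Fintype R] {Ω : Type v} [Fintype Ω] [MulAction R Ω]
  [MulAction.IsPretransitive R Ω] {p : ℕ} [hp : Fact p.Prime] {x : R}

/-- The permutation character. -/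
noncomputable def piFun (R : Type u) [Group R] (Ω : Type v) [MulAction R Ω] : R → ℂ :=
  fun g => (Nat.card (MulAction.fixedBy Ω g) : ℂ)

/-- The multiplicity of an eigenvalue, as a natural number. -/
noncomputable def cn (x : R) (φ : R → ℂ) (s : ZMod p) : ℕ := ⌊(cf x φ s).re⌋₊

/-- The multiplicity in the permutation character. -/
noncomputable def mlt (Ω : Type v) [MulAction R Ω] (φ : IrrCharacter R) : ℕ :=
  ⌊(classInner (piFun R Ω) (φ : R → ℂ)).re⌋₊

/-- The trivial character. -/
noncomputable def oneChar : IrrCharacter R := ⟨fun _ => 1, isIrrCharacter_one⟩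

omit [Fintype R] in
theorem cast_cn {x : R} (hx : x ^ p = 1) {φ : R → ℂ} (h : IsCharacter R φ) (s : ZMod p) :
    (cn x φ s : ℂ) = cf x φ s := by
  obtain ⟨n, hn⟩ := cf_nat hx h s
  simp [cn, hn]

theorem pi_isChar : IsCharacter R (piFun R Ω) := pi_isCharacter

theorem cast_mlt (φ : IrrCharacter R) :
    (mlt Ω φ : ℂ) = classInner (piFun R Ω) (φ : R → ℂ) := by
  obtain ⟨n, hn⟩ := classInner_isCharacter_eq_natCast (pi_isChar (Ω := Ω)) (IsIrr.isCharacter φ.2)
  simp [mlt, hn]

omit [Fintype R] [MulAction.IsPretransitive R Ω] in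
theorem Hyp.order (H : Hyp R Ω p x) : orderOf x = p := by
  refine orderOf_eq_prime H.pow fun h => ?_
  have : Nonempty Ω := Fintype.card_pos_iff.1 (by rw [H.card]; have := hp.1.pos; omega)
  obtain ⟨w⟩ := this
  exact H.fpf w (by rw [h, one_smul])

omit [Fintype R] [MulAction.IsPretransitive R Ω] in
theorem Hyp.pw_fpf (H : Hyp R Ω p x) {j : ZMod p} (hj : j ≠ 0) (w : Ω) : pw x j • w ≠ w := by
  intro h
  refine H.fpf w ?_
  have h1 : pw x (j * j⁻¹) = x := by rw [mul_inv_cancel₀ hj, pw_one]
  rw [← h1, pw_mul H.pow]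
  exact MulAction.mem_stabilizer_iff.1 (pow_mem (MulAction.mem_stabilizer_iff.2 h) _)

omit [Fintype R] [MulAction.IsPretransitive R Ω] in
theorem Hyp.pw_ne (H : Hyp R Ω p x) {j : ZMod p} (hj : j ≠ 0) : pw x j ≠ 1 := by
  intro h
  have : Nonempty Ω := Fintype.card_pos_iff.1 (by rw [H.card]; have := hp.1.pos; omega)
  obtain ⟨w⟩ := this
  exact H.pw_fpf hj w (by rw [h, one_smul])

omit [Fintype R] [MulAction.IsPretransitive R Ω] in
theorem Hyp.cf_pi (H : Hyp R Ω p x) (s : ZMod p) : cf x (piFun R Ω) s = 2 := by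
  classical
  unfold cf
  rw [Finset.sum_eq_single (0 : ZMod p)]
  · simp only [piFun, pw_zero, zero_mul, neg_zero, AddChar.map_zero_eq_one, mul_one]
    rw [show MulAction.fixedBy Ω (1 : R) = Set.univ from MulAction.fixedBy_one_eq_univ Ω R,
      Nat.card_univ, Nat.card_eq_fintype_card, H.card]
    push_cast
    field_simp [p_ne (p := p)]
  · intro j _ hj
    have : MulAction.fixedBy Ω (pw x j) = ∅ := Set.eq_empty_of_forall_notMem fun w => H.pw_fpf hj w
    simp [piFun, this]
  · simp

/-- The eigenvalue multiplicities over the constituents add up to two. -/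
theorem Hyp.sum_mlt_cn (H : Hyp R Ω p x) (s : ZMod p) :
    ∑ φ : IrrCharacter R, mlt Ω φ * cn x (φ : R → ℂ) s = 2 := by
  have h := classFun_expansion (isClassFunction_of_isCharacter (pi_isChar (R := R) (Ω := Ω)))
  have h2 : cf x (piFun R Ω) s = 2 := H.cf_pi s
  rw [h, cf_sum] at h2
  simp only [cf_smul, ← cast_mlt, ← cast_cn H.pow (IsIrr.isCharacter (Subtype.prop _))] at h2
  exact_mod_cast h2

/-- The residues `k` with `x ^ k` conjugate to `x`. -/
def fusion (x : R) (hx : x ^ p = 1) : Subgroup (ZMod p)ˣ where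
  carrier := {k | IsConj x (pw x (k : ZMod p))}
  one_mem' := by
    show IsConj x (pw x (((1 : (ZMod p)ˣ)) : ZMod p))
    rw [Units.val_one, pw_one]
  mul_mem' {a b} (ha : IsConj x (pw x (a : ZMod p))) (hb : IsConj x (pw x (b : ZMod p))) := by
    show IsConj x (pw x ((a * b : (ZMod p)ˣ) : ZMod p))
    rw [Units.val_mul, pw_mul hx]
    exact hb.trans (ha.pow _)
  inv_mem' {a} (ha : IsConj x (pw x (a : ZMod p))) := by
    show IsConj x (pw x ((a⁻¹ : (ZMod p)ˣ) : ZMod p))
    have h := ha.pow ((a⁻¹ : (ZMod p)ˣ) : ZMod p).val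
    rw [← pw_mul hx, ← Units.val_mul, mul_inv_cancel, Units.val_one, pw_one] at h
    exact h.symm

omit [MulAction.IsPretransitive R Ω] in
theorem Hyp.isConj_pw (H : Hyp R Ω p x) {i j : ZMod p} (hi : i ≠ 0) :
    IsConj (pw x i) (pw x j) ↔ ∃ k ∈ fusion x H.pow, j = i * (k : ZMod p) := by
  constructor
  · intro h
    have hj : j ≠ 0 := by
      rintro rfl
      rw [pw_zero, isConj_one_left] at h
      exact H.pw_ne hi h
    refine ⟨Units.mk0 (j * i⁻¹) (mul_ne_zero hj (inv_ne_zero hi)), ?_, ?_⟩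
    · show IsConj x (pw x _)
      have h2 := h.pow (i⁻¹ : ZMod p).val
      rw [← pw_mul H.pow, ← pw_mul H.pow, mul_inv_cancel₀ hi, pw_one] at h2
      exact h2
    · rw [Units.val_mk0]
      field_simp
  · rintro ⟨k, hk, rfl⟩
    rw [mul_comm i, pw_mul H.pow]
    have h1 := IsConj.pow i.val (show IsConj x (pw x (k : ZMod p)) from hk)
    exact h1

omit [MulAction.IsPretransitive R Ω] in
theorem Hyp.card_centralizer (H : Hyp R Ω p x) {i : ZMod p} (hi : i ≠ 0) :
    Nat.card (Subgroup.centralizer ({pw x i} : Set R)) = p := by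
  have : Subgroup.centralizer ({pw x i} : Set R) = Subgroup.zpowers x := by
    ext g
    rw [Subgroup.mem_centralizer_singleton_iff]
    constructor
    · intro hg
      refine H.cent g ?_
      have h2 : Commute g (pw x i) := hg
      have := h2.pow_right (i⁻¹ : ZMod p).val
      rwa [← pw_mul H.pow, mul_inv_cancel₀ hi, pw_one] at this
    · rintro ⟨n, rfl⟩
      exact ((Commute.refl x).zpow_left n).pow_right _
  rw [this, Nat.card_zpowers, H.order]

open scoped Classical in
/-- The Gram identity: second orthogonality in Fourier coordinates. -/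
theorem Hyp.gram (H : Hyp R Ω p x) :
    ∃ C : ℂ, ∀ s t : ZMod p,
      ((∑ φ : IrrCharacter R, cn x (φ : R → ℂ) s * cn x (φ : R → ℂ) t : ℕ) : ℂ) =
        C + ((Finset.univ.filter fun k : fusion x H.pow =>
          ((k : (ZMod p)ˣ) : ZMod p) * t = s).card : ℂ) := by
  refine ⟨(p : ℂ)⁻¹ ^ 2 * (Nat.card R - p * Nat.card (fusion x H.pow)), fun s t => ?_⟩
  set F := fusion x H.pow with hF
  have hreal : ∀ φ : IrrCharacter R, (cn x (φ : R → ℂ) t : ℂ) =
      (p : ℂ)⁻¹ * ∑ j : ZMod p, conj ((φ : R → ℂ) (pw x j)) * ZMod.stdAddChar (j * t) := by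
    intro φ
    rw [← Complex.conj_natCast, cast_cn H.pow (IsIrr.isCharacter φ.2), cf]
    simp only [map_mul, map_inv₀, Complex.conj_natCast, map_sum, conj_stdAddChar, neg_neg]
  have hS : ∀ i j : ZMod p,
      ∑ φ : IrrCharacter R, (φ : R → ℂ) (pw x i) * conj ((φ : R → ℂ) (pw x j)) =
      if i = 0 then (if j = 0 then (Nat.card R : ℂ) else 0)
      else ∑ k : F, if j = i * ((k : (ZMod p)ˣ) : ZMod p) then (p : ℂ) else 0 := by
    intro i j
    rw [second_orthogonality]
    rcases eq_or_ne i 0 with rfl | hi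
    · rw [if_pos rfl, pw_zero]
      have hc : Subgroup.centralizer ({(1 : R)} : Set R) = ⊤ := by
        ext; simp [Subgroup.mem_centralizer_singleton_iff]
      rw [hc, Subgroup.card_top]
      have hiff : IsConj (1 : R) (pw x j) ↔ j = 0 := by
        refine ⟨fun h => ?_, fun h => by rw [h, pw_zero]⟩
        by_contra hj
        exact H.pw_ne hj (isConj_one_right.1 h)
      split_ifs <;> first | rfl | (exfalso; tauto)
    · rw [if_neg hi, H.card_centralizer hi]
      by_cases hc : IsConj (pw x i) (pw x j)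
      · obtain ⟨k, hk, rfl⟩ := (H.isConj_pw hi).1 hc
        rw [if_pos hc, Finset.sum_eq_single (⟨k, hk⟩ : F)]
        · simp
        · intro k' _ hne
          rw [if_neg]
          intro h
          exact hne (Subtype.ext (Units.ext (mul_left_cancel₀ hi h).symm))
        · simp
      · rw [if_neg hc, Finset.sum_eq_zero]
        intro k _
        rw [if_neg]
        intro h
        exact hc ((H.isConj_pw hi).2 ⟨k, k.2, h⟩)
  have hexp : ((∑ φ : IrrCharacter R, cn x (φ : R → ℂ) s * cn x (φ : R → ℂ) t : ℕ) : ℂ) =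
      (p : ℂ)⁻¹ ^ 2 * ∑ i : ZMod p, ∑ j : ZMod p, ZMod.stdAddChar (-(i * s)) * ZMod.stdAddChar (j * t) *
        ∑ φ : IrrCharacter R, (φ : R → ℂ) (pw x i) * conj ((φ : R → ℂ) (pw x j)) := by
    push_cast
    simp only [hreal, cast_cn H.pow (IsIrr.isCharacter (Subtype.prop _)), cf, Finset.mul_sum,
      Finset.sum_mul]
    refine Eq.trans ?_ (Finset.sum_comm.trans (Finset.sum_congr rfl fun i _ => Finset.sum_comm))
    refine Finset.sum_congr rfl fun φ _ => ?_
    rw [Finset.sum_comm]
    refine Finset.sum_congr rfl fun i _ => Finset.sum_congr rfl fun j _ => by ring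
  have hinner : ∀ i : ZMod p, ∑ j : ZMod p, ZMod.stdAddChar (-(i * s)) * ZMod.stdAddChar (j * t) *
        (∑ φ : IrrCharacter R, (φ : R → ℂ) (pw x i) * conj ((φ : R → ℂ) (pw x j))) =
      (∑ k : F, (p : ℂ) * ZMod.stdAddChar (i * (((k : (ZMod p)ˣ) : ZMod p) * t - s))) +
        if i = 0 then ((Nat.card R : ℂ) - p * Nat.card F) else 0 := by
    intro i
    simp only [hS]
    rcases eq_or_ne i 0 with rfl | hi
    · simp [Finset.sum_ite_eq']
      ring
    · simp only [if_neg hi, add_zero, Finset.mul_sum, mul_ite, mul_zero]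
      rw [Finset.sum_comm]
      refine Finset.sum_congr rfl fun k _ => ?_
      rw [Finset.sum_ite_eq', if_pos (Finset.mem_univ _), ← AddChar.map_add_eq_mul, mul_comm]
      congr 2
      ring
  rw [hexp, Finset.sum_congr rfl fun i _ => hinner i, Finset.sum_add_distrib, Finset.sum_ite_eq',
    if_pos (Finset.mem_univ _), Finset.sum_comm]
  simp only [← Finset.mul_sum, sum_stdAddChar, sub_eq_zero, Finset.sum_ite, Finset.sum_const,
    nsmul_eq_mul, mul_zero, add_zero]
  generalize Finset.card _ = N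
  field_simp [p_ne (p := p)]
  ring

end Cfsg.Agent.DegreeTwoP
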