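import Cfsg.Agent.DegreeTwoP.Constituents

/-!
# Wielandt degree `2p`: consequences of the shape of the constituents
-/

set_option maxHeartbeats 800000

namespace Cfsg.Agent.DegreeTwoP

open scoped ComplexConjugate
open Cfsg.Agent.Char Module

universe u v

variable {R : Type u} [Group R] [Fintype R] {Ω : Type v} [Fintype Ω] [MulAction R Ω]
  [MulAction.IsPretransitive R Ω] {p : ℕ} [hp : Fact p.Prime] {x : R}

omit [Fintype Ω] [MulAction.IsPretransitive R Ω] in
theorem Shape.ne_one_of_mem (S : Shape R Ω x p) {φ : IrrCharacter R} (h : φ ∈ S.X) :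
    φ ≠ oneChar := fun e => S.one_notMem (e ▸ h)

omit [Fintype Ω] [MulAction.IsPretransitive R Ω] in
theorem Shape.cn_le_one (S : Shape R Ω x p) {φ : IrrCharacter R} (h : φ ∈ S.X) (s : ZMod p) :
    cn x (φ : R → ℂ) s ≤ 1 := by
  rcases eq_or_ne s 0 with rfl | hs
  · rw [S.cnX0 φ h]; exact Nat.zero_le _
  · rw [← S.sumX s hs]
    exact Finset.single_le_sum (f := fun ψ : IrrCharacter R => cn x (ψ : R → ℂ) s)
      (fun _ _ => Nat.zero_le _) h

omit [Fintype Ω] [MulAction.IsPretransitive R Ω] in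
theorem Shape.exists_mem (S : Shape R Ω x p) {s : ZMod p} (hs : s ≠ 0) :
    ∃ φ ∈ S.X, cn x (φ : R → ℂ) s = 1 := by
  obtain ⟨φ, hφ, hne⟩ := Finset.exists_ne_zero_of_sum_ne_zero
    (show ∑ φ ∈ S.X, cn x (φ : R → ℂ) s ≠ 0 by rw [S.sumX s hs]; exact one_ne_zero)
  exact ⟨φ, hφ, by have := S.cn_le_one hφ s; omega⟩

omit [Fintype Ω] [MulAction.IsPretransitive R Ω] in
theorem Shape.eq_of_cn (S : Shape R Ω x p) {φ ψ : IrrCharacter R} (hφ : φ ∈ S.X) (hψ : ψ ∈ S.X)
    {s : ZMod p} (h1 : cn x (φ : R → ℂ) s ≠ 0) (h2 : cn x (ψ : R → ℂ) s ≠ 0) : φ = ψ := by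
  classical
  have hs : s ≠ 0 := by rintro rfl; exact h1 (S.cnX0 φ hφ)
  by_contra hne
  have h := Finset.sum_le_sum_of_subset (f := fun χ : IrrCharacter R => cn x (χ : R → ℂ) s)
    (show ({φ, ψ} : Finset (IrrCharacter R)) ⊆ S.X from
      Finset.insert_subset hφ (Finset.singleton_subset_iff.2 hψ))
  rw [Finset.sum_pair hne, S.sumX s hs] at h
  omega

theorem Shape.mlt_sum (H : Hyp R Ω p x) (S : Shape R Ω x p) :
    ∑ φ : IrrCharacter R, mlt Ω φ ^ 2 = 2 + S.X.card := by
  classical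
  have hsub : ∀ φ ∈ (Finset.univ : Finset (IrrCharacter R)),
      φ ∉ insert oneChar (insert S.φ0 S.X) → mlt Ω φ ^ 2 = 0 := by
    intro φ _ hφ
    by_contra h
    have h' : mlt Ω φ ≠ 0 := fun e => h (by rw [e]; rfl)
    simp only [Finset.mem_insert] at hφ
    exact hφ (S.support φ h')
  rw [← Finset.sum_subset (Finset.subset_univ (insert oneChar (insert S.φ0 S.X))) hsub,
    Finset.sum_insert (by simp [S.ne_one.symm, S.one_notMem]), Finset.sum_insert S.zero_notMem,
    H.mlt_one, S.mlt0, Finset.sum_congr rfl fun φ hφ => by rw [S.mltX φ hφ],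
    Finset.sum_const, smul_eq_mul]
  ring

omit [Fintype Ω] [MulAction.IsPretransitive R Ω] in
theorem Shape.deg_X (S : Shape R Ω x p) (hx : x ^ p = 1) {φ : IrrCharacter R} (h : φ ∈ S.X) :
    (φ : R → ℂ) 1 = S.e := by
  rw [← sum_cf (x := x) (p := p) (φ : R → ℂ), ← S.degX φ h, Nat.cast_sum]
  exact Finset.sum_congr rfl fun s _ => (cast_cn hx (IsIrr.isCharacter φ.2) s).symm

theorem Shape.deg_zero (H : Hyp R Ω p x) (S : Shape R Ω x p) : (S.φ0 : R → ℂ) 1 = p := by
  rw [← H.sum_cn (IsIrr.isCharacter S.φ0.2)]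
  simp [S.cn0]

/-- Galois conjugation fixes the constituent of degree `p`. -/
theorem Shape.sigIrr_zero (H : Hyp R Ω p x) (S : Shape R Ω x p) {σ : ℂ →+* ℂ} {K : ℕ}
    {k : (ZMod p)ˣ} (hσ : ∀ (χ : R → ℂ), IsCharacter R χ → ∀ g, σ (χ g) = χ (g ^ K))
    (hk : (K : ZMod p) = k) : sigIrr σ S.φ0 = S.φ0 := by
  rcases S.support (sigIrr σ S.φ0) (by rw [mlt_sigIrr, S.mlt0]; exact one_ne_zero) with h | h | h
  · exact absurd (sigIrr_injective σ (h.trans (sigIrr_one σ).symm)) S.ne_one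
  · exact h
  · exfalso
    have h1 := H.cn_sigIrr hσ hk S.φ0 0
    rw [mul_zero, S.cnX0 _ h, S.cn0] at h1
    exact zero_ne_one h1

theorem Shape.sigIrr_mem (H : Hyp R Ω p x) (S : Shape R Ω x p) {σ : ℂ →+* ℂ} {K : ℕ}
    {k : (ZMod p)ˣ} (hσ : ∀ (χ : R → ℂ), IsCharacter R χ → ∀ g, σ (χ g) = χ (g ^ K))
    (hk : (K : ZMod p) = k) {φ : IrrCharacter R} (hφ : φ ∈ S.X) : sigIrr σ φ ∈ S.X := by
  rcases S.support (sigIrr σ φ) (by rw [mlt_sigIrr, S.mltX φ hφ]; exact one_ne_zero) with h | h | h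
  · exact absurd (sigIrr_injective σ (h.trans (sigIrr_one σ).symm)) (S.ne_one_of_mem hφ)
  · exact absurd (sigIrr_injective σ (h.trans (S.sigIrr_zero H hσ hk).symm))
      (fun e => S.zero_notMem (e ▸ hφ))
  · exact h

open scoped Classical in
theorem classInner_piFun (φ : IrrCharacter R) (w : Ω) :
    classInner (piFun R Ω) (φ : R → ℂ) * Nat.card (MulAction.stabilizer R w) =
      ∑ h : MulAction.stabilizer R w, conj ((φ : R → ℂ) h) := by
  classical
  have hcls := isClassFunction_of_isIrr φ.2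
  have hinner : ∀ z : Ω, ∑ g : R, (if g • z = z then conj ((φ : R → ℂ) g) else 0) =
      ∑ g : R, (if g • w = w then conj ((φ : R → ℂ) g) else 0) := by
    intro z
    obtain ⟨u, rfl⟩ := MulAction.exists_smul_eq R w z
    refine (Fintype.sum_equiv (MulAut.conj u).toEquiv _ _ fun g => ?_).symm
    have h1 : (φ : R → ℂ) (u * g * u⁻¹) = (φ : R → ℂ) g := hcls g u
    simp [h1, mul_smul]
  have hsum : ∑ g : R, piFun R Ω g * conj ((φ : R → ℂ) g) =
      Fintype.card Ω * ∑ h : MulAction.stabilizer R w, conj ((φ : R → ℂ) h) := by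
    have hp : ∀ g : R, piFun R Ω g * conj ((φ : R → ℂ) g) =
        ∑ z : Ω, if g • z = z then conj ((φ : R → ℂ) g) else 0 := fun g => by
      rw [← Finset.sum_filter, Finset.sum_const, nsmul_eq_mul, piFun, Nat.card_eq_fintype_card,
        ← Fintype.card_subtype]
      rfl
    rw [Finset.sum_congr rfl fun g _ => hp g, Finset.sum_comm,
      Finset.sum_congr rfl fun z _ => hinner z, Finset.sum_const, Finset.card_univ, nsmul_eq_mul]
    congr 1
    rw [← Finset.sum_filter]
    exact Finset.sum_subtype _ (by simp) _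
  have hcard : (Fintype.card Ω : ℂ) * Nat.card (MulAction.stabilizer R w) = Nat.card R := by
    have h := MulAction.card_orbit_mul_card_stabilizer_eq_card_group R w
    rw [show Fintype.card (MulAction.orbit R w) = Fintype.card Ω from
      Fintype.card_congr ((Equiv.setCongr (MulAction.orbit_eq_univ R w)).trans (Equiv.Set.univ Ω))] at h
    rw [Nat.card_eq_fintype_card, Nat.card_eq_fintype_card]
    exact_mod_cast h
  unfold classInner
  rw [hsum, mul_assoc, mul_right_comm _ _ (Nat.card (MulAction.stabilizer R w) : ℂ), hcard,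
    inv_mul_cancel_left₀ card_ne_zero]

/-- The constituents other than the trivial one are not linear. -/
theorem Shape.one_lt_e (H : Hyp R Ω p x) (S : Shape R Ω x p) : 2 ≤ S.e := by
  classical
  by_contra hlt
  have he : S.e = 1 := by have := S.e_pos; omega
  obtain ⟨φ, hφ, -⟩ := S.exists_mem (one_ne_zero (α := ZMod p))
  obtain ⟨f, hf⟩ := IsChar.exists_hom (IsIrr.isCharacter φ.2)
    (by rw [S.deg_X H.pow hφ, he, Nat.cast_one])
  have : Nonempty Ω := Fintype.card_pos_iff.1 (by rw [H.card]; have := hp.1.pos; omega)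
  obtain ⟨w⟩ := this
  have hin := classInner_piFun φ w
  rw [← cast_mlt, S.mltX φ hφ, Nat.cast_one, one_mul] at hin
  have htriv : ∀ h : MulAction.stabilizer R w, f h = 1 := by
    by_contra! hne
    obtain ⟨h0, hh0⟩ := hne
    have hmul : conj ((φ : R → ℂ) h0) * ∑ h : MulAction.stabilizer R w, conj ((φ : R → ℂ) h) =
        ∑ h : MulAction.stabilizer R w, conj ((φ : R → ℂ) h) := by
      rw [Finset.mul_sum]
      refine Fintype.sum_equiv (Equiv.mulLeft h0) _ _ fun h => ?_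
      simp [hf]
    rw [← hin, mul_eq_right₀ card_ne_zero, hf] at hmul
    refine hh0 (Units.ext ?_)
    simpa using congrArg conj hmul
  have hall : ∀ g : R, f g = 1 := fun g => by
    obtain ⟨r, hr, hrw⟩ := H.derived w (g • w)
    have h1 := htriv ⟨r⁻¹ * g, by
      rw [MulAction.mem_stabilizer_iff, mul_smul, inv_smul_eq_iff, hrw]⟩
    rwa [map_mul, map_inv, hom_commutator_eq_one f hr, inv_one, one_mul] at h1
  refine S.ne_one_of_mem hφ (Subtype.ext (funext fun g => ?_))
  rw [hf]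
  show (f g : ℂ) = 1
  rw [hall g, Units.val_one]

/-- The Gram identity over `ℕ`. -/
theorem Hyp.gramNat (H : Hyp R Ω p x) :
    ∃ C : ℕ, ∀ s t : ZMod p, ∑ φ : IrrCharacter R, cn x (φ : R → ℂ) s * cn x (φ : R → ℂ) t =
      C + Nat.card {k : fusion x H.pow // ((k : (ZMod p)ˣ) : ZMod p) * t = s} := by
  classical
  obtain ⟨C, hC⟩ := H.gram
  refine ⟨∑ φ : IrrCharacter R, cn x (φ : R → ℂ) (1 : ZMod p) * cn x (φ : R → ℂ) (0 : ZMod p),
    fun s t => ?_⟩
  have h0 : Nat.card {k : fusion x H.pow // ((k : (ZMod p)ˣ) : ZMod p) * 0 = (1 : ZMod p)} = 0 := by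
    rw [Nat.card_eq_zero]
    left
    exact ⟨fun k => zero_ne_one ((mul_zero _).symm.trans k.2)⟩
  have h1 := hC 1 0
  rw [← Fintype.card_subtype, ← Nat.card_eq_fintype_card, h0, Nat.cast_zero, add_zero] at h1
  have h2 := hC s t
  rw [← Fintype.card_subtype, ← Nat.card_eq_fintype_card, ← h1] at h2
  exact_mod_cast h2

end Cfsg.Agent.DegreeTwoP
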